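import Cfsg.Agent.Lib.RankTwoTypes.Simple
import Cfsg.Agent.Lib.FTCons.Basic

/-!
# Sylow 2-subgroups of simple groups of 2-rank two, given the Odd Order Theorem
-/

set_option autoImplicit false

namespace CfsgLib.RankTwoTypes

open Cfsg

universe u

/-- A non-abelian simple group has even order, given the Odd Order Theorem. -/
theorem two_dvd_card_of_oddSolvable (hFT : CfsgLib.FTCons.OddSolvable.{u}) {G : Type u} [Group G] [Finite G]
    [IsSimpleGroup G] (hG : ¬ IsMulCommutative G) : 2 ∣ Nat.card G := by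
  by_contra h
  have := hFT G (Nat.odd_iff.2 (by omega))
  exact hG ⟨⟨fun a b => IsSimpleGroup.comm_iff_isSolvable.2 this a b⟩⟩

/-- Alperin's theorem on simple groups of 2-rank at most two, given the Odd Order Theorem. -/
theorem sylow_types_of_oddSolvable (hFT : CfsgLib.FTCons.OddSolvable.{u}) {G : Type u} [Group G] [Finite G]
    [IsSimpleGroup G] (hG : ¬ IsMulCommutative G) (h2 : PRankLE 2 2 G) (S : Sylow 2 G) {F : Type*} [Field F]
    [Fintype F] (hF : Fintype.card F = 16) (P : Sylow 2 (PSU 3 F 4)) :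
    (∃ n : ℕ, 2 ≤ n ∧ Nonempty ((S : Subgroup G) ≃* DihedralGroup n)) ∨ IsQuasiDihedral (S : Subgroup G) ∨
      IsWreathed (S : Subgroup G) ∨ Nonempty ((S : Subgroup G) ≃* (P : Subgroup (PSU 3 F 4))) :=
  sylow_types_of_even hG (two_dvd_card_of_oddSolvable hFT hG) h2 S hF P

end CfsgLib.RankTwoTypes
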