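import Cfsg.Prelude.Def_CaseTheorems
import Cfsg.Agent.Lib.TwoGroups85.MaxClass
import Cfsg.Agent.Lib.TwoGroups.OneInvolution
import Cfsg.Agent.Lib.MacWilliams.NormalEightBound
import Cfsg.Agent.Lib.MetaTwoFusion.Group
import Cfsg.Agent.S0519

/-!
# Sylow 2-subgroups of 2-rank two: auxiliary group lemmas
-/

set_option autoImplicit false

namespace CfsgLib.RankTwoTypes

open Subgroup Equiv
open CfsgLib.MacWilliams (mem_zpowers_of_sq_eq_one)

/-- The list of possible groups; `U` is a model of the exceptional group. -/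
def Types (S : Type*) [Group S] (U : Type*) [Group U] : Prop :=
  (∃ m : ℕ, 2 ≤ m ∧ Nonempty (S ≃* DihedralGroup m)) ∨ Cfsg.IsQuasiDihedral S ∨ Cfsg.IsWreathed S ∨
    (∃ n : ℕ, 2 ≤ n ∧ Nonempty (S ≃* Multiplicative (ZMod (2 ^ n) × ZMod (2 ^ n)))) ∨ Nonempty (S ≃* U)

/-- A quaternion group has only one involution. -/
theorem quat_one {S : Type*} [Group S] [Finite S] {n : ℕ} (e : S ≃* QuaternionGroup n) {a b : S}
    (ha : orderOf a = 2) (hb : orderOf b = 2) : a = b := by
  rcases Nat.eq_zero_or_pos n with rfl | hn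
  · have : Finite (QuaternionGroup 0) := Finite.of_equiv S e.toEquiv
    have hZ : Finite ℤ := Finite.of_injective
      (fun i : ℤ => (QuaternionGroup.a (show ZMod (2 * 0) from i) : QuaternionGroup 0))
      (fun i j h => by injection h)
    exact (Int.infinite.not_finite hZ).elim
  haveI : NeZero n := ⟨by omega⟩
  haveI : NeZero (2 * n) := ⟨by omega⟩
  have h : ∀ g : QuaternionGroup n, orderOf g = 2 → g = QuaternionGroup.a n := by
    rintro (i | i) hg
    · have h2 : QuaternionGroup.a i * QuaternionGroup.a i = (1 : QuaternionGroup n) := by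
        rw [← pow_two, ← hg, pow_orderOf_eq_one]
      rw [QuaternionGroup.a_mul_a, QuaternionGroup.one_def] at h2
      have h3 : i + i = 0 := by injection h2
      rcases (ZMod.neg_eq_self_iff i).1 (neg_eq_of_add_eq_zero_left h3) with h4 | h4
      · rw [h4, ← QuaternionGroup.one_def, orderOf_one] at hg
        exact absurd hg (by norm_num)
      · congr 1
        have : i.val = n := by omega
        rw [← ZMod.natCast_zmod_val i, this]
    · rw [QuaternionGroup.orderOf_xa] at hg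
      exact absurd hg (by norm_num)
  exact e.injective ((h _ (by rw [MulEquiv.orderOf_eq, ha])).trans (h _ (by rw [MulEquiv.orderOf_eq, hb])).symm)

variable {S : Type*} [Group S]

/-- A nonabelian 2-group with a self-centralizing subgroup of order four and two involutions. -/
theorem types_of_four [Finite S] {U : Type*} [Group U] (hS : IsPGroup 2 S)
    (hna : ¬ IsMulCommutative S) (A : Subgroup S) (hA : Nat.card A = 4)
    (hC : centralizer (A : Set S) ≤ A) {a b : S} (ha : orderOf a = 2) (hb : orderOf b = 2) (hab : a ≠ b) :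
    Types S U := by
  haveI : Fact (Nat.Prime 2) := ⟨Nat.prime_two⟩
  obtain ⟨n, hn⟩ := hS.exists_card_eq
  have hn3 : 3 ≤ n := by
    by_contra hlt
    apply hna
    obtain h | h | h : n = 0 ∨ n = 1 ∨ n = 2 := by omega
    all_goals subst h
    · haveI : Subsingleton S := (Nat.card_eq_one_iff_unique.1 (by simpa using hn)).1
      exact ⟨⟨fun a b => Subsingleton.elim _ _⟩⟩
    · haveI : IsCyclic S := isCyclic_of_prime_card (p := 2) (by simpa using hn)
      exact IsCyclic.isMulCommutative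
    · exact IsPGroup.isMulCommutative_of_card_eq_prime_sq hn
  haveI : IsMulCommutative A := IsPGroup.isMulCommutative_of_card_eq_prime_sq (p := 2) (by rw [hA]; rfl)
  have hcl := CfsgLib.MaxClass.class_of_selfCentralizing (p := 2) n S hn A (by rw [hA]; rfl)
    (le_antisymm hC (le_centralizer A))
  rcases CfsgLib.TwoGroups85.isDSQ_of_maximalClass hn3 hn hcl with ⟨k, e⟩ | ⟨k, hk, x, y, hx, hy, hr⟩ | ⟨k, ⟨e⟩⟩
  · refine Or.inl ⟨2 ^ (k + 2), ?_, e⟩
    calc 2 = 2 ^ 1 := rfl
      _ ≤ 2 ^ (k + 2) := Nat.pow_le_pow_right two_pos (by omega)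
  · exact Or.inr (Or.inl ⟨k + 3, by omega, hk, x, y, hx, hy, hr⟩)
  · exact absurd (quat_one e ha hb) hab

/-- An element of order two squares to one. -/
theorem sq_of_ord {x : S} (h : orderOf x = 2) : x ^ 2 = 1 := by rw [← h, pow_orderOf_eq_one]

theorem ord_of_sq {x : S} (h : x ^ 2 = 1) (h1 : x ≠ 1) : orderOf x = 2 := orderOf_eq_prime h h1

theorem comm_of_sq {A : Subgroup S} (h : ∀ a ∈ A, a ^ 2 = 1) : IsMulCommutative A :=
  ⟨⟨fun a b => Subtype.ext (CfsgLib.MacWilliams.commute_of_sq_eq_one (G := A)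
    (fun g => Subtype.ext (h g g.2)) a b |> congrArg Subtype.val)⟩⟩

/-- Without a normal four-subgroup the group is of maximal class. -/
theorem types_of_no_normal_four [Finite S] {U : Type*} [Group U] (hS : IsPGroup 2 S) (h2 : Cfsg.PRankLE 2 2 S)
    (hno : ¬ ∃ W : Subgroup S, W.Normal ∧ Nat.card W = 4 ∧ ∀ a ∈ W, a ^ 2 = 1)
    {a b : S} (ha : orderOf a = 2) (hb : orderOf b = 2) (hab : a ≠ b) (hc : a * b = b * a) :
    Types S U := by
  classical
  let _ := Fintype.ofFinite S
  haveI : Fact (Nat.Prime 2) := ⟨Nat.prime_two⟩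
  have hcyc : ∀ A : Subgroup S, A.Normal → IsMulCommutative A → IsCyclic A := by
    intro A hAn hA
    by_contra hnc
    apply hno
    have hcomm : ∀ x ∈ A, ∀ y ∈ A, x * y = y * x := fun x hx y hy =>
      congrArg Subtype.val (hA.is_comm.comm ⟨x, hx⟩ ⟨y, hy⟩)
    let W : Subgroup S :=
      { carrier := {x | x ∈ A ∧ x ^ 2 = 1}
        one_mem' := ⟨A.one_mem, one_pow 2⟩
        mul_mem' := fun {x y} hx hy => ⟨A.mul_mem hx.1 hy.1, by
          rw [(show Commute x y from hcomm x hx.1 y hy.1).mul_pow, hx.2, hy.2, one_mul]⟩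
        inv_mem' := fun {x} hx => ⟨A.inv_mem hx.1, by rw [inv_pow, hx.2, inv_one]⟩ }
    refine ⟨W, ⟨fun x hx g => ⟨hAn.conj_mem x hx.1 g, by rw [conj_pow, hx.2, mul_one, mul_inv_cancel]⟩⟩, ?_,
      fun x hx => hx.2⟩
    have hle : Nat.card W ≤ 4 := h2 W (comm_of_sq fun x hx => hx.2) fun x hx => hx.2
    obtain ⟨k, hk⟩ := (hS.to_subgroup W).exists_card_eq
    have h3 : 3 ≤ Nat.card W := by
      have hex : ∃ x y : A, orderOf x = 2 ∧ orderOf y = 2 ∧ x ≠ y := by
        by_contra h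
        push Not at h
        obtain ⟨x, -, hx⟩ := CfsgLib.TwoGroups.OneInvolution.exists_generator (hS.to_subgroup A) h ⊤
          ⟨⟨fun p q => Subtype.ext (Subtype.ext (hcomm _ p.1.2 _ q.1.2))⟩⟩
        exact hnc ⟨⟨x, fun g => hx.le (mem_top g)⟩⟩
      obtain ⟨x, y, hx, hy, hxy⟩ := hex
      rw [← orderOf_coe] at hx hy
      have hsub : ({1, (x : S), (y : S)} : Finset S) ⊆ (W : Set S).toFinset := by
        intro g hg
        simp only [Finset.mem_insert, Finset.mem_singleton] at hg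
        rw [Set.mem_toFinset]
        rcases hg with rfl | rfl | rfl
        · exact W.one_mem
        · exact ⟨x.2, sq_of_ord hx⟩
        · exact ⟨y.2, sq_of_ord hy⟩
      have h := Finset.card_le_card hsub
      rw [← Set.ncard_eq_toFinset_card', ← Nat.card_coe_set_eq] at h
      rw [Finset.card_eq_three.2 ⟨1, (x : S), (y : S), ?_, ?_, fun e => hxy (Subtype.ext e), rfl⟩] at h
      · exact h
      · intro e; rw [← e, orderOf_one] at hx; omega
      · intro e; rw [← e, orderOf_one] at hy; omega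
    have hk2 : k = 2 := by
      have h4 : k ≤ 2 := by
        by_contra hlt
        have := Nat.pow_le_pow_right two_pos (show 3 ≤ k by omega)
        omega
      interval_cases k <;> omega
    rw [hk, hk2]; norm_num
  have hm : ∃ B : Subgroup S, IsMulCommutative B ∧ ¬ IsCyclic B := by
    refine ⟨zpowers a ⊔ zpowers b, ⟨⟨fun p q => Subtype.ext ?_⟩⟩, fun hB => ?_⟩
    · have hle : zpowers a ⊔ zpowers b ≤ centralizer ({a, b} : Set S) := by
        refine sup_le (zpowers_le.2 ?_) (zpowers_le.2 ?_) <;> rw [mem_centralizer_iff] <;>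
          rintro g (rfl | rfl) <;> first | rfl | exact hc | exact hc.symm
      have hle2 : zpowers a ⊔ zpowers b ≤
          centralizer ((zpowers a ⊔ zpowers b : Subgroup S) : Set S) := by
        refine sup_le (zpowers_le.2 ?_) (zpowers_le.2 ?_) <;> rw [mem_centralizer_iff] <;> intro g hg
        · exact (mem_centralizer_iff.1 (hle hg) a (Or.inl rfl)).symm
        · exact (mem_centralizer_iff.1 (hle hg) b (Or.inr rfl)).symm
      exact (mem_centralizer_iff.1 (hle2 q.2) p p.2)
    · obtain ⟨g, hg⟩ := hB.exists_generator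
      haveI := hB
      exact hab (congrArg Subtype.val (CfsgLib.MetaTwoFusion.eq_of_sq_eq_one_of_isCyclic
        (y := (⟨a, mem_sup_left (mem_zpowers a)⟩ : (zpowers a ⊔ zpowers b : Subgroup S)))
        (z := ⟨b, mem_sup_right (mem_zpowers b)⟩) (Subtype.ext (sq_of_ord ha)) (Subtype.ext (sq_of_ord hb))
        (fun e => by have := congrArg Subtype.val e; simp at this; rw [this, orderOf_one] at ha; omega)
        (fun e => by have := congrArg Subtype.val e; simp at this; rw [this, orderOf_one] at hb; omega)))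
  obtain ⟨-, ⟨n, ⟨e⟩⟩ | ⟨n, hn, e⟩ | h⟩ := Cfsg.Agent.S0519.result 2 hS hcyc hm
  · exact absurd (quat_one e ha hb) hab
  · exact Or.inl ⟨n, by omega, e⟩
  · exact Or.inr (Or.inl h)

/-- A normal four-subgroup containing a central involution and a non-central one. -/
structure Four (U : Subgroup S) (z u : S) : Prop where
  nor : U.Normal
  card : Nat.card U = 4
  sq : ∀ x ∈ U, x ^ 2 = 1
  hz : z ∈ U
  hu : u ∈ U
  cen : z ∈ center S
  z_ne : z ≠ 1
  nc : u ∉ center S

namespace Four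

variable {U : Subgroup S} {z u : S}

theorem u_ne (h : Four U z u) : u ≠ 1 := fun e => h.nc (e ▸ one_mem _)

theorem u_ne_z (h : Four U z u) : u ≠ z := fun e => h.nc (e ▸ h.cen)

theorem zu_ne (h : Four U z u) : z * u ≠ 1 ∧ z * u ≠ z ∧ z * u ≠ u :=
  ⟨fun e => h.u_ne_z (by rw [← inv_eq_of_mul_eq_one_right e, inv_eq_of_mul_eq_one_right
      (by rw [← pow_two]; exact h.sq z h.hz)]),
    fun e => h.u_ne (mul_eq_left.1 e), fun e => h.z_ne (mul_eq_right.1 e)⟩

theorem cases' [Finite S] (h : Four U z u) {x : S} (hx : x ∈ U) : x = 1 ∨ x = z ∨ x = u ∨ x = z * u := by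
  classical
  let _ := Fintype.ofFinite S
  by_contra hc
  push Not at hc
  obtain ⟨h1, h2, h3⟩ := h.zu_ne
  have hsub : ({1, z, u, z * u, x} : Finset S) ⊆ (U : Set S).toFinset := by
    intro g hg
    simp only [Finset.mem_insert, Finset.mem_singleton] at hg
    rw [Set.mem_toFinset]
    rcases hg with rfl | rfl | rfl | rfl | rfl
    exacts [U.one_mem, h.hz, h.hu, U.mul_mem h.hz h.hu, hx]
  have h' := Finset.card_le_card hsub
  rw [← Set.ncard_eq_toFinset_card', ← Nat.card_coe_set_eq] at h'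
  have h5 : ({1, z, u, z * u, x} : Finset S).card = 5 := by
    rw [Finset.card_insert_of_notMem, Finset.card_insert_of_notMem, Finset.card_insert_of_notMem,
      Finset.card_pair hc.2.2.2.symm]
    · simp [h3.symm, hc.2.2.1.symm]
    · simp [h.u_ne_z.symm, h2.symm, hc.2.1.symm]
    · simp [h.z_ne.symm, h.u_ne.symm, h1.symm, hc.1.symm]
  have h4 : Nat.card (↥(U : Set S)) = 4 := h.card
  omega

theorem comm (h : Four U z u) {x y : S} (hx : x ∈ U) (hy : y ∈ U) : x * y = y * x :=
  congrArg Subtype.val ((comm_of_sq h.sq).is_comm.comm ⟨x, hx⟩ ⟨y, hy⟩)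

theorem conj_eq [Finite S] (h : Four U z u) (g : S) : g * u * g⁻¹ = u ∨ g * u * g⁻¹ = z * u := by
  rcases h.cases' (h.nor.conj_mem u h.hu g) with e | e | e | e
  · exact absurd (conj_eq_one_iff.1 e) h.u_ne
  · exfalso
    apply h.u_ne_z
    calc u = g⁻¹ * (g * u * g⁻¹) * g := by group
      _ = z := by rw [e, mem_center_iff.1 h.cen g⁻¹, inv_mul_cancel_right]
  · exact Or.inl e
  · exact Or.inr e

theorem mem_cen [Finite S] (h : Four U z u) {g : S} : g ∈ centralizer (U : Set S) ↔ g * u = u * g := by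
  refine ⟨fun hg => (mem_centralizer_iff.1 hg u h.hu).symm, fun hg => mem_centralizer_iff.2 fun x hx => ?_⟩
  rcases h.cases' hx with rfl | rfl | rfl | rfl
  · simp
  · exact (mem_center_iff.1 h.cen g).symm
  · exact hg.symm
  · rw [mul_assoc, ← hg, ← mul_assoc, ← mem_center_iff.1 h.cen g, mul_assoc]

theorem u_conj_of_notMem [Finite S] (h : Four U z u) {g : S} (hg : g ∉ centralizer (U : Set S)) :
    g * u * g⁻¹ = z * u :=
  (h.conj_eq g).resolve_left fun e => hg (h.mem_cen.2 (mul_inv_eq_iff_eq_mul.1 e))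

theorem index_cen [Finite S] (h : Four U z u) : (centralizer (U : Set S)).index = 2 := by
  obtain ⟨g, hg⟩ : ∃ g : S, g * u ≠ u * g := by
    by_contra hc
    push Not at hc
    exact h.nc (mem_center_iff.2 hc)
  rw [index_eq_two_iff]
  refine ⟨g, fun b => ?_⟩
  have hgc : g ∉ centralizer (U : Set S) := fun hh => hg (h.mem_cen.1 hh)
  by_cases hb : b ∈ centralizer (U : Set S)
  · exact Or.inr ⟨hb, fun hbg => hgc ((Subgroup.mul_mem_cancel_left _ hb).1 hbg)⟩
  · refine Or.inl ⟨h.mem_cen.2 ?_, hb⟩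
    apply mul_inv_eq_iff_eq_mul.1
    calc b * g * u * (b * g)⁻¹ = b * (g * u * g⁻¹) * b⁻¹ := by group
      _ = b * z * u * b⁻¹ := by rw [h.u_conj_of_notMem hgc]; group
      _ = z * (b * u * b⁻¹) := by rw [mem_center_iff.1 h.cen b]; group
      _ = u := by rw [h.u_conj_of_notMem hb, ← mul_assoc, ← pow_two, h.sq z h.hz, one_mul]

theorem le_cen (h : Four U z u) : U ≤ centralizer (U : Set S) :=
  fun _ hx => mem_centralizer_iff.2 fun _ hy => h.comm hy hx

end Four

/-- An elementary subgroup extended by a commuting involution. -/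
theorem mem_of_commute_involution [Finite S] (h2 : Cfsg.PRankLE 2 2 S) (U : Subgroup S) [U.Normal]
    (hc : Nat.card U = 4) (hsq : ∀ x ∈ U, x ^ 2 = 1) {x : S} (hxU : x ∈ centralizer (U : Set S))
    (hx : x ^ 2 = 1) : x ∈ U := by
  by_contra hn
  have hmem : ∀ g ∈ U ⊔ zpowers x, ∃ w ∈ U, g = w ∨ g = w * x := by
    intro g hg
    rw [Subgroup.mem_sup_of_normal_left] at hg
    obtain ⟨w, hw, y, hy, rfl⟩ := hg
    rcases (mem_zpowers_of_sq_eq_one hx).1 hy with rfl | rfl
    · exact ⟨w, hw, Or.inl (mul_one w)⟩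
    · exact ⟨w, hw, Or.inr rfl⟩
  have hsq' : ∀ g ∈ U ⊔ zpowers x, g ^ 2 = 1 := by
    intro g hg
    obtain ⟨w, hw, rfl | rfl⟩ := hmem g hg
    · exact hsq g hw
    · rw [(show Commute w x from mem_centralizer_iff.1 hxU w hw).mul_pow, hsq w hw, hx, one_mul]
  have h4 := h2 (U ⊔ zpowers x) (comm_of_sq hsq') hsq'
  have := eq_of_le_of_card_ge (le_sup_left : U ≤ U ⊔ zpowers x) (by omega)
  exact hn (this ▸ mem_sup_right (mem_zpowers x))

theorem perm_fpf_cases : ∀ a b c : Perm (Fin 3), a 0 ≠ 0 → b 1 ≠ 1 → c 2 ≠ 2 →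
    ∀ i : Fin 3, ∃ w ∈ [a, b, c, a * b, a * c, b * c], (w i ≠ i ∧ ∀ j, w j ≠ j) := by decide +kernel

theorem perm_transitive : ∀ σ : Perm (Fin 3), (∀ i, σ i ≠ i) → ∀ i j, ∃ k : Fin 3, (σ ^ (k : ℕ)) i = j := by
  decide +kernel

/-- Three movers on three points contain a transitive element. -/
theorem exists_fpf {X : Type*} [Group X] (π : X →* Perm (Fin 3)) (H : Subgroup X)
    (hmove : ∀ i, ∃ x ∈ H, π x i ≠ i) : ∃ x ∈ H, ∀ i, π x i ≠ i := by
  obtain ⟨a, ha, h0⟩ := hmove 0
  obtain ⟨b, hb, h1⟩ := hmove 1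
  obtain ⟨c, hc, h2⟩ := hmove 2
  obtain ⟨w, hw, -, hfpf⟩ := perm_fpf_cases (π a) (π b) (π c) h0 h1 h2 0
  simp only [List.mem_cons, List.not_mem_nil, or_false] at hw
  rcases hw with rfl | rfl | rfl | rfl | rfl | rfl
  · exact ⟨a, ha, hfpf⟩
  · exact ⟨b, hb, hfpf⟩
  · exact ⟨c, hc, hfpf⟩
  · exact ⟨a * b, H.mul_mem ha hb, by rwa [map_mul]⟩
  · exact ⟨a * c, H.mul_mem ha hc, by rwa [map_mul]⟩
  · exact ⟨b * c, H.mul_mem hb hc, by rwa [map_mul]⟩

/-- The three involutions as a function, and the action of the automorphisms on them. -/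
theorem exists_three_hom {T : Type*} [Group T] {f : Fin 3 → T} (hf : Function.Injective f)
    (hmem : ∀ x, orderOf x = 2 ↔ ∃ i, f i = x) :
    ∃ π : MulAut T →* Perm (Fin 3), ∀ (α : MulAut T) i, f (π α i) = α (f i) := by
  have hex : ∀ (α : MulAut T) i, ∃ j, f j = α (f i) := fun α i =>
    (hmem _).1 (by rw [MulEquiv.orderOf_eq, (hmem _).2 ⟨i, rfl⟩])
  choose j hj using hex
  have hji : ∀ α, Function.Injective (j α) := fun α a b e => hf (α.injective (by rw [← hj, ← hj, e]))
  refine ⟨MonoidHom.mk' (fun α => Equiv.ofBijective (j α) (Finite.injective_iff_bijective.1 (hji α)))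
    fun α β => Equiv.ext fun i => hf ?_, fun α i => hj α i⟩
  show f (j (α * β) i) = f (j α (j β i))
  rw [hj, hj, hj]; rfl

theorem transitive_of_fpf {T : Type*} [Group T] {f : Fin 3 → T}
    (hmem : ∀ x, orderOf x = 2 ↔ ∃ i, f i = x) (π : MulAut T →* Perm (Fin 3))
    (hπ : ∀ (α : MulAut T) i, f (π α i) = α (f i)) {φ : MulAut T} (hφ : ∀ i, π φ i ≠ i) :
    ∀ s t : T, orderOf s = 2 → orderOf t = 2 → ∃ k : ℕ, (φ ^ k) s = t := by
  intro s t hs ht
  obtain ⟨i, rfl⟩ := (hmem s).1 hs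
  obtain ⟨j, rfl⟩ := (hmem t).1 ht
  obtain ⟨k, hk⟩ := perm_transitive (π φ) hφ i j
  exact ⟨k, by rw [← hπ, map_pow, hk]⟩

end CfsgLib.RankTwoTypes
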