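import Cfsg.Agent.Lib.RankTwoTypes.Main
import Cfsg.Agent.Lib.Fusion.CentralTwo

/-!
# The rank-two types for saturated fusion systems
-/

set_option autoImplicit false

namespace CfsgLib.RankTwoTypes

open Subgroup Cfsg Cfsg.FusionSystem CfsgLib.Fusion CfsgLib.FusionCentralTwo

universe u

variable {Ω : Type u} [Group Ω] {S : Subgroup Ω} {F : FusionSystem S}

/-- A homomorphism between subgroups of `S` read in the system. -/
def IsMap (F : FusionSystem S) (P : Subgroup S) (φ : P →* S) : Prop :=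
  ∃ Φ ∈ F.Hom (P.map S.subtype), ∀ x : P, Φ ⟨((x : S) : Ω), ⟨x, x.2, rfl⟩⟩ = (φ x : Ω)

variable [Finite S]

theorem exists_sys (hS : IsPGroup 2 S) (hF : F.IsSaturated 2) :
    ∃ sys : Sys ↥S, sys.Maps = fun P => {φ | IsMap F P φ} := by
  haveI : Fact (Nat.Prime 2) := ⟨Nat.prime_two⟩
  refine ⟨⟨fun P => {φ | IsMap F P φ}, ?_, ?_, ?_⟩, rfl⟩
  · rintro P φ ⟨Φ, hΦ, he⟩ a b hab
    have h := (F.injective_of_mem hΦ (a₁ := ⟨((a : S) : Ω), ⟨a, a.2, rfl⟩⟩)
      (a₂ := ⟨((b : S) : Ω), ⟨b, b.2, rfl⟩⟩)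
      (by rw [he a, he b, hab]))
    have h' : ((a : S) : Ω) = ((b : S) : Ω) :=
      congrArg (fun q : ↥(P.map S.subtype) => (q : Ω)) h
    exact Subtype.ext (Subtype.ext h')
  · rintro P φ ⟨Φ, hΦ, he⟩ x hx
    have hz : ((x : S) : Ω) ∈ zen S := ⟨(x : S).2, mem_centralizer_iff.2 fun g hg =>
      congrArg Subtype.val (mem_center_iff.1 hx ⟨g, hg⟩)⟩
    have hc : F.IsConjElt (φ x : Ω) ((x : S) : Ω) := by
      rw [← he x]; exact isConjElt_symm (isConjElt_of_map hΦ ⟨((x : S) : Ω), ⟨x, x.2, rfl⟩⟩)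
    obtain ⟨Ψ, hΨ, hΨe⟩ := exists_map_central hS hF hz hc
    have hle : (centralizer ({φ x} : Set S)).map S.subtype ≤ cen S (φ x : Ω) := by
      rintro _ ⟨g, hg, rfl⟩
      exact mem_cen.2 ⟨g.2, congrArg Subtype.val (mem_centralizer_singleton_iff.1 hg)⟩
    let ψ : centralizer ({φ x} : Set S) →* S :=
      ((Ψ.comp (Subgroup.inclusion hle)).comp ((S.subtype.comp (centralizer ({φ x} : Set S)).subtype).codRestrict _
        fun g => ⟨g, g.2, rfl⟩)).codRestrict S fun g => apply_mem_S hΨ _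
    refine ⟨ψ, ⟨_, restrict_mem hle hΨ, fun g => rfl⟩, fun h => Subtype.ext ?_⟩
    exact hΨe (hle ⟨_, h, rfl⟩)
  · intro T hT
    set T' := T.map S.subtype with hT'
    have hT'S : T' ≤ S := map_subtype_le T
    let e : T ≃* T' := T.equivMapOfInjective S.subtype S.subtype_injective
    have he : ∀ x : T, ((e x : T') : Ω) = ((x : S) : Ω) := fun x => rfl
    have hN : S ≤ normalizer (T' : Set Ω) := by
      intro g hg
      rw [Subgroup.mem_normalizer_iff]
      have key : ∀ g : S, ∀ x ∈ T', (g : Ω) * x * (g : Ω)⁻¹ ∈ T' := by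
        rintro g _ ⟨t, ht, rfl⟩
        exact ⟨g * t * g⁻¹, hT.conj_mem t ht g, rfl⟩
      refine fun x => ⟨key ⟨g, hg⟩ x, fun h => ?_⟩
      have := key ⟨g, hg⟩⁻¹ _ h
      simpa [mul_assoc] using this
    have hfn : F.IsFullyNormalized T' := by
      refine ⟨hT'S, fun R _ => ?_⟩
      have : Finite (normalizerIn S T' : Subgroup Ω) := finite_of_le inf_le_left
      exact Subgroup.card_le_of_le (le_inf inf_le_left (inf_le_left.trans hN))
    obtain ⟨R, hR⟩ := (fullyNormalized_good hS hF hfn).1.2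
    set c := MulAut.congr e
    have hconj : (MulAut.conjNormal : S →* MulAut T).range = (autInducedBy S T').comap c.toMonoidHom := by
      ext α
      rw [Subgroup.mem_comap, mem_autInducedBy]
      constructor
      · rintro ⟨g, rfl⟩
        refine ⟨g, g.2, fun y => ?_⟩
        obtain ⟨x, rfl⟩ := e.surjective y
        simp [c, MulAut.congr, he, MulAut.conjNormal_apply]
      · rintro ⟨g, hg, hge⟩
        refine ⟨⟨g, hg⟩, MulEquiv.ext fun x => Subtype.ext (Subtype.ext ?_)⟩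
        have := hge (e x)
        simp [c, MulAut.congr, he, MulAut.conjNormal_apply] at this ⊢
        exact this.symm
    refine ⟨(F.autGroup T').comap c.toMonoidHom, ?_, ?_, ?_⟩
    · rw [hconj]; exact Subgroup.comap_mono (autInducedBy_le_autGroup hT'S)
    · rw [hconj, Subgroup.relIndex_comap, Subgroup.map_comap_eq_self_of_surjective c.surjective]
      haveI := finite_mulAut hT'S
      have := R.not_dvd_index
      rw [hR] at this
      rw [← Nat.not_even_iff_odd, even_iff_two_dvd]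
      exact this
    · rintro P φ ⟨Φ, hΦ, hΦe⟩ hTP hmem
      have hle : T' ≤ P.map S.subtype := Subgroup.map_mono hTP
      have hΦ' := restrict_mem hle hΦ
      have hr := range_eq_of_card_le hΦ' hT'S (M := T') (by
        rintro ⟨_, t, ht, rfl⟩
        refine ⟨φ ⟨t, hTP ht⟩, hmem ⟨t, hTP ht⟩ ht, ?_⟩
        exact (hΦe ⟨t, hTP ht⟩).symm) le_rfl
      obtain ⟨β, hβ, hβe⟩ := exists_aut hΦ' hr
      refine ⟨c.symm β, ?_, fun x => ?_⟩
      · rw [Subgroup.mem_comap]
        simpa using hβ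
      · refine Subtype.ext ?_
        rw [← hΦe]
        have := hβe (e x)
        simp [c, MulAut.congr]
        exact (he _).symm.trans ((congrArg Subtype.val (e.apply_symm_apply _)).trans this)

theorem types_of_saturated {F' : Type*} [Field F'] [Fintype F'] (hS : IsPGroup 2 S) (hF : F.IsSaturated 2)
    (h2 : Cfsg.PRankLE 2 2 ↥S) (h1 : ¬ Cfsg.PRankLE 2 1 ↥S)
    (hmoved : ∀ z ∈ zen S, orderOf z = 2 → ∃ y, y ≠ z ∧ F.IsConjElt z y)
    (hF16 : Fintype.card F' = 16) (Q : Sylow 2 (Cfsg.PSU 3 F' 4)) :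
    Types ↥S (Q : Subgroup (Cfsg.PSU 3 F' 4)) := by
  obtain ⟨sys, hsys⟩ := exists_sys hS hF
  refine types_of_sys hS h2 h1 hF16 Q sys fun z hz hzo => ?_
  have hzen : (z : Ω) ∈ zen S := ⟨z.2, mem_centralizer_iff.2 fun g hg =>
    congrArg Subtype.val (mem_center_iff.1 hz ⟨g, hg⟩)⟩
  obtain ⟨y, hy, hc⟩ := hmoved z hzen (by rw [orderOf_coe]; exact hzo)
  have hyS : y ∈ S := (isConjElt_mem hc).2
  obtain ⟨Ψ, hΨ, hΨe⟩ := exists_map_central hS hF hzen (isConjElt_symm hc)
  have hle : (centralizer ({⟨y, hyS⟩} : Set S)).map S.subtype ≤ cen S y := by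
    rintro _ ⟨g, hg, rfl⟩
    exact mem_cen.2 ⟨g.2, congrArg Subtype.val (mem_centralizer_singleton_iff.1 hg)⟩
  let ψ : centralizer ({⟨y, hyS⟩} : Set S) →* S :=
    ((Ψ.comp (Subgroup.inclusion hle)).comp ((S.subtype.comp (centralizer ({⟨y, hyS⟩} : Set S)).subtype).codRestrict _
      fun g => ⟨g, g.2, rfl⟩)).codRestrict S fun g => apply_mem_S hΨ _
  refine ⟨⟨y, hyS⟩, fun e => hy (congrArg Subtype.val e), ψ, ?_, Subtype.ext ?_⟩
  · rw [hsys]; exact ⟨_, restrict_mem hle hΨ, fun g => rfl⟩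
  · exact hΨe (hle ⟨⟨y, hyS⟩, mem_cen_self _, rfl⟩)

end CfsgLib.RankTwoTypes
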