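import Cfsg.Agent.Lib.RankTwoTypes.Homocyclic
import Cfsg.Agent.Lib.RankTwoTypes.Fusion
import Cfsg.Agent.Lib.Fusion.Group
import Cfsg.Agent.Lib.Involutions.BrauerSuzuki
import Cfsg.Agent.S1238

/-!
# Sylow 2-subgroups of simple groups of 2-rank two, given an involution
-/

set_option autoImplicit false

namespace CfsgLib.RankTwoTypes

open Cfsg

/-- A non-abelian simple group has no isolated involution. -/
theorem no_isolated {G : Type*} [Group G] [Finite G] [IsSimpleGroup G] (hG : ¬ IsMulCommutative G) (z : G) :
    ¬ IsIsolatedInvolution z := by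
  intro hz
  rcases (inferInstance : (pPrimeCore 2 G).Normal).eq_bot_or_eq_top with h | h
  · have hc : z ∈ Subgroup.center G := Subgroup.mem_center_iff.2 fun g => by
      have := CfsgLib.Involutions.zstar G z hz g
      rw [h, Subgroup.mem_bot] at this
      have h' : g * z = z * g := mul_inv_eq_iff_eq_mul.1 (mul_inv_eq_one.1 this)
      exact h'
    rcases (inferInstance : (Subgroup.center G).Normal).eq_bot_or_eq_top with h' | h'
    · rw [h', Subgroup.mem_bot] at hc
      have := hz.1
      rw [hc, orderOf_one] at this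
      omega
    · exact hG ⟨⟨fun a b => (Subgroup.mem_center_iff.1 (h' ▸ Subgroup.mem_top b) a)⟩⟩
  · have := CfsgLib.PCore.not_dvd_card_pPrimeCore (p := 2) (G := G)
    rw [h, Subgroup.card_top] at this
    exact this (hz.1 ▸ orderOf_dvd_natCard z)

/-- Alperin's theorem for simple groups of even order and 2-rank at most two. -/
theorem sylow_types_of_even {G : Type*} [Group G] [Finite G] [IsSimpleGroup G] (hG : ¬ IsMulCommutative G)
    (heven : 2 ∣ Nat.card G) (h2 : PRankLE 2 2 G) (S : Sylow 2 G) {F : Type*} [Field F] [Fintype F]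
    (hF : Fintype.card F = 16) (P : Sylow 2 (PSU 3 F 4)) :
    (∃ n : ℕ, 2 ≤ n ∧ Nonempty ((S : Subgroup G) ≃* DihedralGroup n)) ∨ IsQuasiDihedral (S : Subgroup G) ∨
      IsWreathed (S : Subgroup G) ∨ Nonempty ((S : Subgroup G) ≃* (P : Subgroup (PSU 3 F 4))) := by
  haveI : Fact (Nat.Prime 2) := ⟨Nat.prime_two⟩
  have hidx : ∀ H : Subgroup G, H.index ≠ 2 := fun H hH => by
    rcases (Subgroup.normal_of_index_eq_two hH).eq_bot_or_eq_top with rfl | rfl
    · rw [Subgroup.index_bot] at hH
      haveI := isCyclic_of_prime_card hH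
      exact hG IsCyclic.isMulCommutative
    · rw [Subgroup.index_top] at hH; omega
  have h1 : ¬ PRankLE 2 1 G := fun h1 => by
    obtain ⟨z, hz⟩ := exists_prime_orderOf_dvd_card' 2 heven
    refine no_isolated hG z ⟨hz, fun g hg => ?_⟩
    by_contra hne
    set w := g * z * g⁻¹ with hw
    have hwo : orderOf w = 2 := by rw [hw, ← MulAut.conj_apply, MulEquiv.orderOf_eq, hz]
    have hzz : z ^ 2 = 1 := sq_of_ord hz
    have hww : w ^ 2 = 1 := sq_of_ord hwo
    let A : Subgroup G :=
      { carrier := {1, z, w, z * w}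
        one_mem' := Or.inl rfl
        inv_mem' := by
          have iz : z⁻¹ = z := inv_eq_of_mul_eq_one_right (by rw [← pow_two, hzz])
          have iw : w⁻¹ = w := inv_eq_of_mul_eq_one_right (by rw [← pow_two, hww])
          rintro x (rfl | rfl | rfl | rfl)
          · simp
          · simp [iz]
          · simp [iw]
          · simp [iz, iw, hg.eq]
        mul_mem' := by
          have zz : z * z = 1 := by rw [← pow_two, hzz]
          have ww : w * w = 1 := by rw [← pow_two, hww]
          have wz : w * z = z * w := hg.eq.symm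
          have zzw : ∀ u, z * (z * u) = u := fun u => by rw [← mul_assoc, zz, one_mul]
          have wwu : ∀ u, w * (w * u) = u := fun u => by rw [← mul_assoc, ww, one_mul]
          have wzu : ∀ u, w * (z * u) = z * (w * u) := fun u => by rw [← mul_assoc, wz, mul_assoc]
          rintro x y (rfl | rfl | rfl | rfl) (rfl | rfl | rfl | rfl) <;>
            simp [mul_assoc, zz, ww, wz, zzw, wwu, wzu] }
    have hA2 : ∀ a ∈ A, a ^ 2 = 1 := by
      rintro a (rfl | rfl | rfl | rfl)
      exacts [one_pow 2, hzz, hww, by rw [hg.mul_pow, hzz, hww, one_mul]]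
    have h3 := h1 A (comm_of_sq hA2) hA2
    classical
    let _ := Fintype.ofFinite G
    have hsub : ({1, z, w} : Finset G) ⊆ (A : Set G).toFinset := by
      intro x hx
      simp only [Finset.mem_insert, Finset.mem_singleton] at hx
      rw [Set.mem_toFinset]
      rcases hx with rfl | rfl | rfl
      exacts [Or.inl rfl, Or.inr (Or.inl rfl), Or.inr (Or.inr (Or.inl rfl))]
    have h4 := Finset.card_le_card hsub
    rw [← Set.ncard_eq_toFinset_card', ← Nat.card_coe_set_eq,
      Finset.card_eq_three.2 ⟨1, z, w, fun e => by rw [← e, orderOf_one] at hz; omega,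
        fun e => by rw [← e, orderOf_one] at hwo; omega, fun e => hne e.symm, rfl⟩] at h4
    change 3 ≤ Nat.card A at h4
    rw [pow_one] at h3
    omega
  rcases Cfsg.Agent.S1238.result h2 h1 hidx (no_isolated hG) S hF P with h | h | h | ⟨n, hn, ⟨e⟩⟩ | h
  · exact Or.inl h
  · exact Or.inr (Or.inl h)
  · exact Or.inr (Or.inr (Or.inl h))
  · exact (not_homocyclic hG S hn e).elim
  · exact Or.inr (Or.inr (Or.inr h))

end CfsgLib.RankTwoTypes
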