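import Cfsg.Agent.Lib.AbelianFrob.IndexThree
import Cfsg.Agent.Lib.AbelianFrob.Involution
import Cfsg.Agent.Lib.Blocks.Knorr
import Cfsg.Agent.S0945

/-!
# No simple group has a homocyclic Sylow 2-subgroup of rank two and exponent at least four
-/

set_option autoImplicit false
set_option linter.style.haveILetI false

noncomputable section

namespace CfsgLib.RankTwoTypes

open Cfsg CfsgLib.Characters CfsgLib.CharCorr CfsgLib.AbelianFrob
open scoped Classical

/-- The arithmetic of the four signed degrees. -/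
theorem degree_absurd {X Y Z : ℝ} (h1 : 1 + X + Y + Z = 0) (h2 : 1 + 1 / X + 1 / Y + 9 / Z = 0)
    (hX : 14 ≤ |X|) (hY : 14 ≤ |Y|) (hZ : Z = 3 ∨ Z = -3 ∨ 11 ≤ |Z|) : False := by
  have a1 : |1 / X| ≤ 1 / 14 := by rw [abs_div, abs_one]; gcongr
  have a2 : |1 / Y| ≤ 1 / 14 := by rw [abs_div, abs_one]; gcongr
  rw [abs_le] at a1 a2
  rcases hZ with rfl | rfl | hZ
  · norm_num at h2 a1 a2; linarith
  · norm_num at h2 a1 a2; linarith
  · have a3 : |9 / Z| ≤ 9 / 11 := by
      rw [abs_div, show |(9 : ℝ)| = 9 by norm_num]; gcongr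
    rw [abs_le] at a3
    linarith

theorem not_homocyclic {G : Type*} [Group G] [Finite G] [IsSimpleGroup G] (hG : ¬ IsMulCommutative G)
    (P : Sylow 2 G) {n : ℕ} (hn : 2 ≤ n)
    (e : (P : Subgroup G) ≃* Multiplicative (ZMod (2 ^ n) × ZMod (2 ^ n))) : False := by
  letI := Fintype.ofFinite G
  haveI : Fact (Nat.Prime 2) := ⟨Nat.prime_two⟩
  obtain ⟨hidx, hfrob⟩ := Cfsg.Agent.S0945.result P n (by omega) e
  have hab : IsMulCommutative ↥(P : Subgroup G) :=
    ⟨⟨fun a b => e.injective (by rw [map_mul, map_mul, mul_comm])⟩⟩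
  have hcard : Nat.card ↥(P : Subgroup G) = 2 ^ n * 2 ^ n := by
    rw [Nat.card_congr e.toEquiv, Nat.card_congr Multiplicative.toAdd, Nat.card_prod, Nat.card_zmod]
  have h16 : 16 ≤ Nat.card ↥(P : Subgroup G) := by
    rw [hcard]
    calc 16 = 2 ^ 2 * 2 ^ 2 := rfl
      _ ≤ _ := Nat.mul_le_mul (Nat.pow_le_pow_right two_pos hn) (Nat.pow_le_pow_right two_pos hn)
  have hdvd : 2 ∣ Nat.card ↥(P : Subgroup G) := by
    rw [hcard]; exact Dvd.dvd.mul_right (dvd_pow_self 2 (by omega)) _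
  rcases hidx with hidx | hidx
  · -- Burnside's transfer theorem
    have hle : Subgroup.normalizer (P : Set G) ≤ Subgroup.centralizer (P : Set G) :=
      Subgroup.relIndex_eq_one.1 hidx
    have hc := MonoidHom.ker_transferSylow_isComplement' P hle
    rcases (inferInstance : (MonoidHom.transferSylow P hle).ker.Normal).eq_bot_or_eq_top with h | h
    · apply hG
      refine ⟨⟨fun a b => ?_⟩⟩
      have hinj := (MonoidHom.ker_eq_bot_iff _).1 h
      apply hinj
      rw [map_mul, map_mul]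
      exact hab.is_comm.comm _ _
    · have := hc.symm.index_eq_card
      rw [h, Subgroup.index_top] at this
      omega
  obtain ⟨t₀, ht₀⟩ := exists_prime_orderOf_dvd_card' 2 hdvd
  set t : G := (t₀ : G) with ht'
  have ht : orderOf t = 2 := by rw [ht', Subgroup.orderOf_coe, ht₀]
  have htK : ∀ K : Subgroup G, K.Normal → t ∈ K → K = ⊤ := fun K hK htK =>
    hK.eq_bot_or_eq_top.resolve_left fun h => by
      rw [h, Subgroup.mem_bot] at htK; rw [htK, orderOf_one] at ht; omega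
  obtain ⟨M, hM⟩ := CfsgLib.Blocks.exists_isPModular (p := 2)
  have hfrob' : Fpf P := hfrob (by rw [hidx]; omega)
  have hCN : (CP P).relIndex (NP P) = 3 := hidx
  have hP4 : 4 < Nat.card ↥(P : Subgroup G) := by omega
  obtain ⟨μ, A, δ, S, h3, hsign⟩ := exists_struct_three P hab hfrob' hM hCN hP4
  obtain ⟨h1mem, hA1⟩ := S.principal_mem_rest hab hfrob' hM (by rw [hCN]; omega)
  obtain ⟨α, β, hne, he⟩ := Finset.card_eq_two.1
    (show (S.rest.erase (principalIrr G)).card = 2 by rw [Finset.card_erase_of_mem h1mem, h3])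
  have hrest : S.rest = {principalIrr G, α, β} := by rw [← he, Finset.insert_erase h1mem]
  have hα1 : α ≠ principalIrr G := Finset.ne_of_mem_erase (he.symm ▸ Finset.mem_insert_self α _)
  have hβ1 : β ≠ principalIrr G :=
    Finset.ne_of_mem_erase (he.symm ▸ Finset.mem_insert_of_mem (Finset.mem_singleton_self β))
  have hαr : α ∈ S.rest := by rw [hrest]; simp
  have hβr : β ∈ S.rest := by rw [hrest]; simp
  obtain ⟨ψ, hψ, hav⟩ := exists_avoiding P hab hfrob' hCN hP4 ht
  -- `ψ` is trivial on the involutions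
  have hψt : ∀ w : ↥(P : Subgroup G), IsConj (w : G) t → ψ w = 1 := fun w hw => by
    by_contra h
    exact (hav w h 1 (Commute.one_left _) (by rw [orderOf_one]; norm_num)).2.1 (by rwa [mul_one])
  have hrel : ∀ c : IrrCharacter G → ℂ,
      (∀ y : ↥(P : Subgroup G), ψ y ≠ 1 → ∀ v : G, Commute v (y : G) → ¬ 2 ∣ orderOf v →
        ∑ χ : IrrCharacter G, c χ * (χ : G → ℂ) ((y : G) * v) = 0) →
      c (principalIrr G) + (A α : ℂ) * c α + (A β : ℂ) * c β + ((-δ : ℤ) : ℂ) * c (μ ψ) = 0 := by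
    intro c hc
    have h := column_rel P hM c 1 ψ fun y hy v hv hv' =>
      hc y (fun e => hy (by rw [e]; rfl)) v hv hv'
    rw [Finset.sum_congr rfl fun χ hχ => by
      rw [S.bdiff χ (Finset.mem_filter.1 hχ).2 ψ hψ, Int.cast_sub, sub_mul],
      Finset.sum_sub_distrib, S.sum_split, hrest,
      Finset.sum_eq_single_of_mem (μ ψ) (Finset.mem_filter.2 ⟨Finset.mem_univ _, S.mem ψ hψ⟩)
        (fun χ _ hne => by rw [if_neg (Ne.symm hne)]; simp), if_pos rfl,
      Finset.sum_eq_zero (s := S.exc) (fun χ hχ => by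
        obtain ⟨φ, hφ, rfl⟩ := S.mem_exc.1 hχ
        rw [S.const φ hφ]; simp),
      Finset.sum_insert (by simp [Ne.symm hα1, Ne.symm hβ1]), Finset.sum_pair hne, hA1] at h
    push_cast at h ⊢
    linear_combination h
  have hav' := fun c hc => hrel c fun y hy v hv hv' => relations_of_avoids ht (hav y hy v hv hv') c hc
  have e1 := hav' _ (Or.inr (Or.inl rfl))
  have e2 := hav' _ (Or.inr (Or.inr rfl))
  have e3 := hav' _ (Or.inl rfl)
  simp only [irr_one_eq_charDegree α, irr_one_eq_charDegree β, irr_one_eq_charDegree (μ ψ),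
    principalIrr_apply] at e1 e2 e3
  -- the values at `t`
  have hpp : IsPPart 2 t t := isPPart_self P Nat.prime_two t₀.2
  have ht1 : t ≠ 1 := fun e => by rw [e, orderOf_one] at ht; omega
  have hαt := S.value_rest hab hfrob' hM hαr hpp t₀.2 ht1
  have hβt := S.value_rest hab hfrob' hM hβr hpp t₀.2 ht1
  set F := Finset.univ.filter (fun φ : Dual P => φ ≠ 1 ∧ μ φ = μ ψ) with hF
  have hF1 : ∀ φ ∈ F, φ t₀ = 1 := by
    intro φ hφ
    obtain ⟨-, hφ1, hφμ⟩ := Finset.mem_filter.1 hφ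
    obtain ⟨m, hm, hmw⟩ := (S.eq_iff ψ φ hψ hφ1).1 hφμ.symm
    have hw : m⁻¹ * t * m ∈ (P : Subgroup G) := by
      have := (Subgroup.mem_normalizer_iff.1 (Subgroup.inv_mem _ hm) t).1 t₀.2
      simpa using this
    rw [hmw ⟨_, hw⟩ t₀ (by simp [ht', mul_assoc]), hψt]
    exact isConj_iff.2 ⟨m, by simp [mul_assoc]⟩
  have hμ0 : A (μ ψ) = 0 := S.const ψ hψ
  have hμt : (μ ψ : G → ℂ) t = (δ : ℂ) * (F.card : ℂ) := by
    rw [S.value hab hfrob' hM (S.mem ψ hψ) hpp t₀.2 ht1, hμ0, Int.cast_zero, zero_add]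
    congr 1
    rw [Finset.sum_congr rfl fun φ hφ => by
      rw [show (⟨t, t₀.2⟩ : ↥(P : Subgroup G)) = t₀ from rfl, hF1 φ hφ, Units.val_one],
      Finset.sum_const, nsmul_one]
  rw [hαt, hβt, hμt] at e2 e3
  have hsq : ∀ χ ∈ S.rest, (A χ : ℂ) * A χ = 1 := fun χ hχ => by
    rcases hsign χ hχ with h | h <;> rw [h] <;> norm_num
  have hδ : (δ : ℂ) * δ = 1 := by rcases S.sign with rfl | rfl <;> norm_num
  have hk : F.card = 3 := by
    have : (F.card : ℂ) = 3 := by
      push_cast at e2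
      linear_combination -e2 + hsq α hαr + hsq β hβr - (F.card : ℂ) * hδ
    exact_mod_cast this
  rw [hk] at e3
  -- the degrees modulo the Sylow order
  have hdeg : ∀ χ, χ ∈ principalBlock M G → ∃ b : ℤ, (charDegree (χ : G → ℂ) : ℤ) =
      Nat.card ↥(P : Subgroup G) * b + A χ + δ * (Finset.univ.filter (fun φ : Dual P => φ ≠ 1 ∧ μ φ = χ)).card := by
    intro χ hχ
    refine ⟨bcoef P χ 1 - A χ, ?_⟩
    have h := res_eq_sum P hab χ 1
    rw [show ((1 : ↥(P : Subgroup G)) : G) = 1 from rfl, irr_one_eq_charDegree] at h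
    have h' : (charDegree (χ : G → ℂ) : ℤ) = ∑ φ : Dual P, bcoef P χ φ := by
      have : ((charDegree (χ : G → ℂ) : ℤ) : ℂ) = ((∑ φ : Dual P, bcoef P χ φ : ℤ) : ℂ) := by
        push_cast
        rw [h]
        exact Finset.sum_congr rfl fun φ _ => by simp
      exact_mod_cast this
    have hb : ∀ φ : Dual P, bcoef P χ φ = (bcoef P χ 1 - A χ) + (if φ = 1 then A χ else 0) +
        δ * (if φ ≠ 1 ∧ μ φ = χ then 1 else 0) := by
      intro φ
      by_cases hφ : φ = 1
      · subst hφ; simp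
      · have := S.bdiff χ hχ φ hφ
        rw [if_neg hφ]
        by_cases hm : μ φ = χ
        · rw [if_pos hm] at this; rw [if_pos ⟨hφ, hm⟩]; linarith
        · rw [if_neg hm] at this; rw [if_neg fun e => hm e.2]; linarith
    haveI := hab
    letI : CommGroup ↥(P : Subgroup G) :=
      { (inferInstance : Group ↥(P : Subgroup G)) with mul_comm := mul_comm' }
    have hcd : Nat.card (Dual P) = Nat.card ↥(P : Subgroup G) :=
      CommGroup.card_monoidHom_of_hasEnoughRootsOfUnity _ _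
    rw [h', Finset.sum_congr rfl fun φ _ => hb φ, Finset.sum_add_distrib, Finset.sum_add_distrib,
      Finset.sum_const, Finset.card_univ, ← Nat.card_eq_fintype_card, hcd, nsmul_eq_mul, Finset.sum_ite_eq',
      if_pos (Finset.mem_univ _), ← Finset.mul_sum, Finset.sum_boole]
  have hne0 : ∀ χ ∈ S.rest, (Finset.univ.filter (fun φ : Dual P => φ ≠ 1 ∧ μ φ = χ)).card = 0 := fun χ hχ => by
    rw [Finset.card_eq_zero, Finset.filter_eq_empty_iff]
    exact fun φ _ h => (S.mem_rest.1 hχ).2 (S.mem_exc.2 ⟨φ, h.1, h.2⟩)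
  have hbig : ∀ χ ∈ S.rest, χ ≠ principalIrr G → 14 ≤ charDegree (χ : G → ℂ) := by
    intro χ hχ hχ1
    obtain ⟨b, hb⟩ := hdeg χ (S.mem_rest.1 hχ).1
    rw [hne0 χ hχ, Nat.cast_zero, mul_zero, add_zero] at hb
    have hpos : 0 < charDegree (χ : G → ℂ) := charDegree_irr_pos χ
    rcases lt_or_ge b 1 with hb1 | hb1
    · have hb0 : b = 0 := by
        by_contra hne
        have hneg : b ≤ -1 := by omega
        have : (Nat.card ↥(P : Subgroup G) : ℤ) * b ≤ -16 := by
          nlinarith [(show (16 : ℤ) ≤ Nat.card ↥(P : Subgroup G) by exact_mod_cast h16)]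
        rcases hsign χ hχ with h | h <;> rw [h] at hb <;> omega
      rw [hb0, mul_zero, zero_add] at hb
      refine absurd (eq_principal_of_value_eq htK ?_) hχ1
      rw [S.value_rest hab hfrob' hM hχ hpp t₀.2 ht1, irr_one_eq_charDegree, ← hb, Int.cast_natCast]
    · have : (16 : ℤ) ≤ (Nat.card ↥(P : Subgroup G) : ℤ) * b := by
        nlinarith [(show (16 : ℤ) ≤ Nat.card ↥(P : Subgroup G) by exact_mod_cast h16)]
      rcases hsign χ hχ with h | h <;> rw [h] at hb <;> omega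
  obtain ⟨c, hc⟩ := hdeg (μ ψ) (S.mem ψ hψ)
  rw [hμ0, ← hF, hk, add_zero] at hc
  have h16' : (16 : ℤ) ≤ Nat.card ↥(P : Subgroup G) := by exact_mod_cast h16
  set D := charDegree (μ ψ : G → ℂ) with hD
  have hDpos : 0 < D := charDegree_irr_pos (μ ψ)
  have hD3 : D = 3 ∨ 11 ≤ D := by
    rcases lt_trichotomy c 0 with h | h | h
    · have : (Nat.card ↥(P : Subgroup G) : ℤ) * c ≤ -16 := by nlinarith
      rcases S.sign with h' | h' <;> rw [h'] at hc <;> omega
    · rw [h, mul_zero] at hc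
      rcases S.sign with h' | h' <;> rw [h'] at hc <;> omega
    · have : (16 : ℤ) ≤ (Nat.card ↥(P : Subgroup G) : ℤ) * c := by nlinarith
      rcases S.sign with h' | h' <;> rw [h'] at hc <;> omega
  set D₁ := charDegree (α : G → ℂ)
  set D₂ := charDegree (β : G → ℂ)
  have hb1 : (14 : ℝ) ≤ D₁ := by exact_mod_cast hbig α hαr hα1
  have hb2 : (14 : ℝ) ≤ D₂ := by exact_mod_cast hbig β hβr hβ1
  have r1 : (1 : ℝ) + (A α : ℝ) * D₁ + (A β : ℝ) * D₂ + (-δ : ℝ) * D = 0 := by
    have : (((1 : ℝ) + (A α : ℝ) * D₁ + (A β : ℝ) * D₂ + (-δ : ℝ) * D : ℝ) : ℂ) = ((0 : ℝ) : ℂ) := by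
      push_cast at e1 ⊢
      exact e1
    exact_mod_cast this
  have r3 : (1 : ℝ) + (A α : ℝ) * ((A α : ℝ) ^ 2 / D₁) + (A β : ℝ) * ((A β : ℝ) ^ 2 / D₂) +
      (-δ : ℝ) * (((δ : ℝ) * 3) ^ 2 / D) = 0 := by
    have : (((1 : ℝ) + (A α : ℝ) * ((A α : ℝ) ^ 2 / D₁) + (A β : ℝ) * ((A β : ℝ) ^ 2 / D₂) +
      (-δ : ℝ) * (((δ : ℝ) * 3) ^ 2 / D) : ℝ) : ℂ) = ((0 : ℝ) : ℂ) := by
      push_cast at e3 ⊢
      simpa using e3
    exact_mod_cast this
  have hs : ∀ χ ∈ S.rest, (A χ : ℝ) = 1 ∨ (A χ : ℝ) = -1 := fun χ hχ =>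
    (hsign χ hχ).imp (fun h => by rw [h]; norm_num) (fun h => by rw [h]; norm_num)
  have hδr : (δ : ℝ) = 1 ∨ (δ : ℝ) = -1 := S.sign.imp (fun h => by rw [h]; norm_num) (fun h => by rw [h]; norm_num)
  refine degree_absurd (X := (A α : ℝ) * D₁) (Y := (A β : ℝ) * D₂) (Z := (-δ : ℝ) * D) r1 ?_ ?_ ?_ ?_
  · rw [← r3]
    rcases hs α hαr with h | h <;> rcases hs β hβr with h' | h' <;> rcases hδr with h'' | h'' <;>
      rw [h, h', h''] <;> ring
  · rcases hs α hαr with h | h <;> rw [h] <;> simp [abs_of_nonneg (by linarith : (0:ℝ) ≤ D₁), hb1]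
  · rcases hs β hβr with h | h <;> rw [h] <;> simp [abs_of_nonneg (by linarith : (0:ℝ) ≤ D₂), hb2]
  · rcases hD3 with h | h
    · rcases hδr with h'' | h'' <;> rw [h'', h]
      · right; left; norm_num
      · left; norm_num
    · right; right
      have : (11 : ℝ) ≤ D := by exact_mod_cast h
      rcases hδr with h'' | h'' <;> rw [h''] <;> simp [this]

end CfsgLib.RankTwoTypes
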