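import Cfsg.Agent.Lib.RankTwoTypes.Same

/-!
# 2-groups of rank two carrying fusion that moves every central involution
-/

set_option autoImplicit false

namespace CfsgLib.RankTwoTypes

open Subgroup Equiv

universe u

/-- What is used of a saturated fusion system on `S`. -/
structure Sys (S : Type u) [Group S] where
  Maps : ∀ P : Subgroup S, Set (P →* S)
  inj : ∀ (P : Subgroup S), ∀ φ ∈ Maps P, Function.Injective φ
  back : ∀ (P : Subgroup S), ∀ φ ∈ Maps P, ∀ x : P, (x : S) ∈ center S →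
    ∃ ψ ∈ Maps (centralizer {φ x}), ∀ h : φ x ∈ centralizer {φ x}, ψ ⟨φ x, h⟩ = x
  aut : ∀ (T : Subgroup S) [T.Normal], ∃ E : Subgroup (MulAut T),
    (MulAut.conjNormal : S →* MulAut T).range ≤ E ∧
    Odd ((MulAut.conjNormal : S →* MulAut T).range.relIndex E) ∧
    ∀ (P : Subgroup S), ∀ φ ∈ Maps P, ∀ hTP : T ≤ P, (∀ x : P, (x : S) ∈ T → φ x ∈ T) →
      ∃ α ∈ E, ∀ x : T, ((α x : T) : S) = φ ⟨x, hTP x.2⟩

variable {S : Type u} [Group S] [Finite S] {F : Type*} [Field F] [Fintype F]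

theorem mem_cen_self (y : S) : y ∈ centralizer ({y} : Set S) := mem_centralizer_singleton_iff.2 rfl

omit [Finite S] in
theorem exists_pair (h1 : ¬ Cfsg.PRankLE 2 1 S) :
    ∃ a b : S, orderOf a = 2 ∧ orderOf b = 2 ∧ a ≠ b ∧ a * b = b * a := by
  unfold Cfsg.PRankLE at h1
  push Not at h1
  obtain ⟨A, hA, hA2, hc⟩ := h1
  by_contra h
  push Not at h
  have hle : Nat.card A ≤ 2 := by
    rcases finite_or_infinite A with hfin | hinf
    swap
    · rw [Nat.card_eq_zero_of_infinite]; omega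
    by_cases hbot : ∀ a ∈ A, a = 1
    · rw [(eq_bot_iff.2 fun a ha => mem_bot.2 (hbot a ha) : A = ⊥), card_bot]; omega
    push Not at hbot
    obtain ⟨a, ha, ha1⟩ := hbot
    have hsub : ∀ g : A, g = 1 ∨ g = ⟨a, ha⟩ := fun g => by
      by_contra hg
      push Not at hg
      exact h g a (ord_of_sq (hA2 g g.2) fun e => hg.1 (Subtype.ext e)) (ord_of_sq (hA2 a ha) ha1)
        (fun e => hg.2 (Subtype.ext e)) (congrArg Subtype.val (hA.is_comm.comm g ⟨a, ha⟩))
    classical
    refine (Nat.card_le_card_of_surjective (fun b : Bool => if b then (⟨a, ha⟩ : A) else 1) fun g => ?_).trans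
      (by simp)
    rcases hsub g with rfl | rfl
    · exact ⟨false, rfl⟩
    · exact ⟨true, rfl⟩
  omega

/-- A central four-group containing all involutions. -/
theorem types_of_central (hS : IsPGroup 2 S) (h2 : Cfsg.PRankLE 2 2 S) (h1 : ¬ Cfsg.PRankLE 2 1 S)
    (hF : Fintype.card F = 16) (Q : Sylow 2 (Cfsg.PSU 3 F 4)) (sys : Sys S)
    (hmoved : ∀ z ∈ center S, orderOf z = 2 →
      ∃ y, y ≠ z ∧ ∃ ψ ∈ sys.Maps (centralizer {y}), ψ ⟨y, mem_cen_self y⟩ = z)
    (U : Subgroup S) [U.Normal] (hcard : Nat.card U = 4) (hsq : ∀ x ∈ U, x ^ 2 = 1) (hU : U ≤ center S) :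
    Types S (Q : Subgroup (Cfsg.PSU 3 F 4)) := by
  classical
  let _ := Fintype.ofFinite S
  have hinv : ∀ x : S, orderOf x = 2 ↔ x ∈ U ∧ x ≠ 1 := fun x => by
    refine ⟨fun hx => ⟨mem_of_commute_involution h2 U hcard hsq
      (mem_centralizer_iff.2 fun w hw => (mem_center_iff.1 (hU hw) x).symm) (sq_of_ord hx),
      fun e => by rw [e, orderOf_one] at hx; omega⟩, fun hx => ord_of_sq (hsq x hx.1) hx.2⟩
  have h3 : ((U : Set S).toFinset.erase 1).card = 3 := by
    rw [Finset.card_erase_of_mem (Set.mem_toFinset.2 U.one_mem), ← Set.ncard_eq_toFinset_card',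
      ← Nat.card_coe_set_eq, show Nat.card (U : Set S) = 4 from hcard]
  obtain ⟨a, b, c, hab, hac, hbc, he⟩ := Finset.card_eq_three.1 h3
  let f : Fin 3 → S := ![a, b, c]
  have hf : Function.Injective f := by
    intro i j h
    fin_cases i <;> fin_cases j <;> simp [f, hab, hac, hbc, hab.symm, hac.symm, hbc.symm] at h ⊢
  have hmem : ∀ x, orderOf x = 2 ↔ ∃ i, f i = x := by
    intro x
    have hx : x ∈ ((U : Set S).toFinset.erase 1) ↔ x ∈ ({a, b, c} : Finset S) := by rw [he]
    simp only [Finset.mem_erase, Set.mem_toFinset, SetLike.mem_coe, Finset.mem_insert,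
      Finset.mem_singleton] at hx
    rw [hinv, and_comm, hx, Fin.exists_fin_succ, Fin.exists_fin_two]
    simp [f, eq_comm]
  obtain ⟨π, hπ⟩ := exists_three_hom hf hmem
  have hmove : ∀ i, ∃ α ∈ (⊤ : Subgroup (MulAut S)), π α i ≠ i := by
    intro i
    have hi := (hmem (f i)).2 ⟨i, rfl⟩
    obtain ⟨y, hy, ψ, hψ, hψy⟩ := hmoved (f i) (hU ((hinv _).1 hi).1) hi
    have hyC : ∀ g : S, g ∈ centralizer ({y} : Set S) := by
      have : y ∈ U := by
        refine ((hinv y).1 ?_).1
        rw [show orderOf y = orderOf (⟨y, mem_cen_self y⟩ : centralizer ({y} : Set S)) from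
          orderOf_injective (centralizer ({y} : Set S)).subtype Subtype.val_injective ⟨y, mem_cen_self y⟩,
          ← orderOf_injective ψ (sys.inj _ ψ hψ), hψy, hi]
      exact fun g => mem_centralizer_singleton_iff.2 (mem_center_iff.1 (hU this) g)
    let ψ' : S →* S := ψ.comp ((MonoidHom.id S).codRestrict _ hyC)
    have hbij : Function.Bijective ψ' := Finite.injective_iff_bijective.1
      ((sys.inj _ ψ hψ).comp fun p q e => congrArg Subtype.val e)
    refine ⟨MulEquiv.ofBijective ψ' hbij, mem_top _, fun e => hy ?_⟩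
    have h' := hπ (MulEquiv.ofBijective ψ' hbij) i
    rw [e, MulEquiv.ofBijective_apply] at h'
    exact (hbij.1 (h'.symm.trans (hψy.symm.trans rfl) : ψ' (f i) = ψ' y)).symm
  obtain ⟨φ, -, hφ⟩ := exists_fpf π ⊤ hmove
  rcases Cfsg.Agent.S1237.result hS h2 h1 φ (transitive_of_fpf hmem π hπ hφ) hF Q with ⟨n, hn, ⟨e⟩⟩ | he'
  · rcases (by omega : n = 1 ∨ 2 ≤ n) with rfl | hn2
    · refine Or.inl ⟨2, le_rfl, ?_⟩
      haveI : IsKleinFour S := by
        refine IsKleinFour.mk ?_ ?_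
        · rw [Nat.card_congr e.toEquiv, Nat.card_congr Multiplicative.toAdd, Nat.card_prod, Nat.card_zmod]
          norm_num
        · refine (Nat.prime_two.eq_one_or_self_of_dvd _ ?_).resolve_left fun h => ?_
          · refine Monoid.exponent_dvd_of_forall_pow_eq_one fun g => e.injective ?_
            rw [map_pow, map_one]
            apply Multiplicative.toAdd.injective
            rw [toAdd_pow, toAdd_one]
            exact (by decide : ∀ w : ZMod (2 ^ 1) × ZMod (2 ^ 1), (2 : ℕ) • w = 0) _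
          · have := Monoid.exp_eq_one_iff.1 h
            exact absurd (Subsingleton.elim a b) hab
      exact IsKleinFour.nonempty_mulEquiv
    · exact Or.inr (Or.inr (Or.inr (Or.inl ⟨n, hn2, ⟨e⟩⟩)))
  · exact Or.inr (Or.inr (Or.inr (Or.inr he')))

/-- An element with a map to a central one, inside a normal four-group. -/
theorem types_of_fusing (hS : IsPGroup 2 S) (h2 : Cfsg.PRankLE 2 2 S)
    (hF : Fintype.card F = 16) (Q : Sylow 2 (Cfsg.PSU 3 F 4)) (sys : Sys S)
    {U : Subgroup S} {z u : S} (h : Four U z u)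
    {ψ : centralizer ({u} : Set S) →* S} (hψ : ψ ∈ sys.Maps _) (hu : ψ ⟨u, mem_cen_self u⟩ = z) :
    Types S (Q : Subgroup (Cfsg.PSU 3 F 4)) := by
  haveI := h.nor
  set T := centralizer (U : Set S) with hT
  have hidx : T.index = 2 := h.index_cen
  haveI hTn : T.Normal := normal_of_index_eq_two hidx
  have hTP : T ≤ centralizer ({u} : Set S) := fun g hg => mem_centralizer_singleton_iff.2 (h.mem_cen.1 hg)
  have hzo : orderOf z = 2 := ord_of_sq (h.sq z h.hz) h.z_ne
  have hωT : ∀ x ∈ T, x ^ 2 = 1 → x ∈ U := fun x hx hx2 => mem_of_commute_involution h2 U h.card h.sq hx hx2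
  obtain ⟨E, hE, hodd, hmaps⟩ := sys.aut T
  by_cases hin : ∀ x : centralizer ({u} : Set S), (x : S) ∈ T → ψ x ∈ T
  · obtain ⟨α, hα, hαe⟩ := hmaps _ ψ hψ hTP hin
    exact types_of_fused hS h2 hF Q h T rfl α (fun hu' => (hαe ⟨u, hu'⟩).trans hu) E hE hodd hα
  -- otherwise some conjugate of an involution of `U` lies outside `T`
  push Not at hin
  obtain ⟨x₁, hx₁, hx₁T⟩ := hin
  let θ : T →* S := ψ.comp (Subgroup.inclusion hTP)
  have hθi : Function.Injective θ := (sys.inj _ ψ hψ).comp (Subgroup.inclusion_injective hTP)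
  have hθu : θ ⟨u, h.le_cen h.hu⟩ = z := hu
  obtain ⟨w₀, hw₀, hw₀T⟩ : ∃ w₀ : T, (w₀ : S) ∈ U ∧ θ w₀ ∉ T := by
    by_contra hc
    push Not at hc
    have hsurj : ∀ v ∈ U, ∃ w : U, θ ⟨w, h.le_cen w.2⟩ = v := by
      let g : U → U := fun w => ⟨θ ⟨w, h.le_cen w.2⟩, hωT _ (hc ⟨w, h.le_cen w.2⟩ w.2) (by
        rw [← map_pow, show (⟨(w : S), h.le_cen w.2⟩ : T) ^ 2 = 1 from Subtype.ext (h.sq w w.2), map_one])⟩
      have hg : Function.Injective g := fun p q e => Subtype.ext (congrArg Subtype.val (hθi (congrArg Subtype.val e) :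
        (⟨(p : S), h.le_cen p.2⟩ : T) = ⟨q, h.le_cen q.2⟩) :)
      intro v hv
      obtain ⟨w, hw⟩ := Finite.surjective_of_injective hg ⟨v, hv⟩
      exact ⟨w, congrArg Subtype.val hw⟩
    apply hx₁T
    refine mem_centralizer_iff.2 fun v hv => ?_
    obtain ⟨w, rfl⟩ := hsurj v hv
    rw [show ψ x₁ = θ ⟨x₁, hx₁⟩ from rfl, ← map_mul, ← map_mul]
    exact congrArg θ (Subtype.ext (mem_centralizer_iff.1 hx₁ w w.2))
  have hu_comm : ∀ x ∈ T, u * x = x * u := fun x hx => (h.mem_cen.1 hx).symm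
  have hsqT : ∀ g : S, g ^ 2 ∈ T := fun g => by rw [pow_two]; exact mul_self_mem_of_index_two hidx g
  have hzθ : ∀ x : T, θ x * θ w₀ = θ w₀ * θ x := fun x => by
    rw [← map_mul, ← map_mul]
    exact congrArg θ (Subtype.ext (mem_centralizer_iff.1 x.2 w₀ hw₀).symm)
  -- the image of `T`
  set T' := θ.range with hT'
  have hT'idx : T'.index = 2 := by
    have hc : Nat.card T' = Nat.card T := (Nat.card_congr (MonoidHom.ofInjective hθi).toEquiv).symm
    have e1 := T'.card_mul_index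
    rw [hc, ← T.card_mul_index, hidx] at e1
    exact Nat.eq_of_mul_eq_mul_left Nat.card_pos e1
  have hnot : ∀ v ∈ U, v ∈ T' → v = 1 ∨ v = z := by
    rintro v hv ⟨x, rfl⟩
    rcases h.cases' hv with e | e | e | e
    · exact Or.inl e
    · exact Or.inr e
    all_goals
      exfalso
      refine hw₀T (h.mem_cen.2 ?_)
      have hcm := hzθ x
      rw [e] at hcm
    · exact hcm.symm
    · have hzc := mem_center_iff.1 h.cen (θ w₀)
      rw [mul_assoc, ← mul_assoc (θ w₀) z, hzc, mul_assoc] at hcm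
      exact (mul_left_cancel hcm).symm
  have hTU : T ≤ U := by
    intro w hw
    by_contra hwU
    have hw2 : w ^ 2 ≠ 1 := fun e => hwU (hωT w hw e)
    -- an element of order four
    haveI : Fact (Nat.Prime 2) := ⟨Nat.prime_two⟩
    obtain ⟨k, hk⟩ := IsPGroup.iff_orderOf.1 hS w
    have hk2 : 2 ≤ k := by
      by_contra hlt
      exact hw2 (orderOf_dvd_iff_pow_eq_one.1 (hk ▸ Nat.pow_dvd_pow 2 (show k ≤ 1 by omega)))
    obtain ⟨k, rfl⟩ : ∃ j, k = j + 2 := ⟨k - 2, by omega⟩
    set q := w ^ 2 ^ k with hq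
    have hqT : q ∈ T := pow_mem hw _
    have hq2 : q ^ 2 ≠ 1 := fun e => by
      rw [hq, ← pow_mul, ← pow_succ, ← orderOf_dvd_iff_pow_eq_one, hk,
        Nat.pow_dvd_pow_iff_le_right one_lt_two] at e
      omega
    have hq4 : (q ^ 2) ^ 2 = 1 := by
      rw [← pow_mul, hq, ← pow_mul]
      have : 2 ^ k * (2 * 2) = 2 ^ (k + 2) := by ring
      rw [this, ← hk, pow_orderOf_eq_one]
    have hqz : q ^ 2 = z := (hnot _ (hωT _ (hsqT q) hq4) (by
      rw [pow_two]; exact mul_self_mem_of_index_two hT'idx q)).resolve_left hq2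
    have hθz : θ ⟨z, h.le_cen h.hz⟩ = z := by
      have hpow : θ ⟨z, h.le_cen h.hz⟩ = θ ⟨q, hqT⟩ ^ 2 := by
        rw [← map_pow]; exact congrArg θ (Subtype.ext hqz.symm)
      refine (hnot _ (hωT _ ?_ ?_) ⟨_, rfl⟩).resolve_left ?_
      · rw [hpow]; exact hsqT _
      · rw [← map_pow, show (⟨z, h.le_cen h.hz⟩ : T) ^ 2 = 1 from Subtype.ext (h.sq z h.hz), map_one]
      · intro e
        exact h.z_ne (congrArg Subtype.val (hθi (e.trans (map_one θ).symm)))
    exact h.u_ne_z (congrArg Subtype.val (hθi (hθu.trans hθz.symm)))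
  have hTU' : T = U := le_antisymm hTU h.le_cen
  refine types_of_four hS (fun hcm => h.nc (mem_center_iff.2 fun g => hcm.is_comm.comm g u)) T
    (by rw [hTU', h.card]) (fun g hg => ?_) hzo (ord_of_sq (h.sq u h.hu) h.u_ne) h.u_ne_z.symm
  exact mem_centralizer_iff.2 fun v hv => mem_centralizer_iff.1 hg v (h.le_cen hv)

/-- Alperin's theorem on 2-groups of rank two, for fusion moving every central involution. -/
theorem types_of_sys (hS : IsPGroup 2 S) (h2 : Cfsg.PRankLE 2 2 S) (h1 : ¬ Cfsg.PRankLE 2 1 S)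
    (hF : Fintype.card F = 16) (Q : Sylow 2 (Cfsg.PSU 3 F 4)) (sys : Sys S)
    (hmoved : ∀ z ∈ center S, orderOf z = 2 →
      ∃ y, y ≠ z ∧ ∃ ψ ∈ sys.Maps (centralizer {y}), ψ ⟨y, mem_cen_self y⟩ = z) :
    Types S (Q : Subgroup (Cfsg.PSU 3 F 4)) := by
  haveI : Fact (Nat.Prime 2) := ⟨Nat.prime_two⟩
  obtain ⟨a, b, ha, hb, hab, hc⟩ := exists_pair h1
  by_cases hno : ∃ W : Subgroup S, W.Normal ∧ Nat.card W = 4 ∧ ∀ a ∈ W, a ^ 2 = 1
  swap
  · exact types_of_no_normal_four hS h2 hno ha hb hab hc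
  obtain ⟨U, hUn, hU4, hUsq⟩ := hno
  haveI := hUn
  by_cases hUc : U ≤ center S
  · exact types_of_central hS h2 h1 hF Q sys hmoved U hU4 hUsq hUc
  obtain ⟨u, huU, hu⟩ := SetLike.not_le_iff_exists.1 hUc
  obtain ⟨z, hzU, hzc, hz1⟩ : ∃ z ∈ U, z ∈ center S ∧ z ≠ 1 := by
    let _ : MulAction S U := MulAction.compHom U (MulAut.conjNormal : S →* MulAut U)
    have hfix : (1 : U) ∈ MulAction.fixedPoints S U := fun g => map_one (MulAut.conjNormal g)
    obtain ⟨w, hw, hw1⟩ := hS.exists_fixed_point_of_prime_dvd_card_of_fixed_point U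
      (by rw [hU4]; norm_num) hfix
    refine ⟨w, w.2, mem_center_iff.2 fun g => ?_, fun e => hw1 (Subtype.ext e).symm⟩
    have this : ((MulAut.conjNormal g w : U) : S) = w := congrArg Subtype.val (hw g)
    rw [MulAut.conjNormal_apply] at this
    exact mul_inv_eq_iff_eq_mul.1 this
  have h : Four U z u := ⟨hUn, hU4, hUsq, hzU, huU, hzc, hz1, hu⟩
  have hzo : orderOf z = 2 := ord_of_sq (hUsq z hzU) hz1
  obtain ⟨y, hyz, ψ, hψ, hψy⟩ := hmoved z hzc hzo
  have hyo : orderOf y = 2 := by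
    rw [show orderOf y = orderOf (⟨y, mem_cen_self y⟩ : centralizer ({y} : Set S)) from
      orderOf_injective (centralizer ({y} : Set S)).subtype Subtype.val_injective ⟨y, mem_cen_self y⟩, ← orderOf_injective ψ (sys.inj _ ψ hψ), hψy, hzo]
  have fin : ∀ {y : S}, y ∈ U → y ≠ z → y ≠ 1 → ∀ ψ ∈ sys.Maps (centralizer {y}),
      ψ ⟨y, mem_cen_self y⟩ = z → Types S (Q : Subgroup (Cfsg.PSU 3 F 4)) := by
    intro y hyU hy hy1 ψ hψ hψy
    have hy' : Four U z y := ⟨hUn, hU4, hUsq, hzU, hyU, hzc, hz1, fun hyc => by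
      rcases h.cases' hyU with e | e | e | e
      · exact hy1 e
      · exact hy e
      · exact hu (e ▸ hyc)
      · refine hu ?_
        have := (center S).mul_mem ((center S).inv_mem hzc) (e ▸ hyc)
        rwa [inv_mul_cancel_left] at this⟩
    exact types_of_fusing hS h2 hF Q sys hy' hψ hψy
  by_cases hA : y ∈ U
  · exact fin hA hyz (fun e => by rw [e, orderOf_one] at hyo; omega) ψ hψ hψy
  set T := centralizer (U : Set S) with hT
  have hidx : T.index = 2 := h.index_cen
  have hωT : ∀ x ∈ T, x ^ 2 = 1 → x ∈ U := fun x hx hx2 => mem_of_commute_involution h2 U hU4 hUsq hx hx2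
  have hyT : y ∉ T := fun e => hA (hωT y e (sq_of_ord hyo))
  by_cases hsq : ∀ x ∈ (centralizer ({y} : Set S)), x ∈ T → x ^ 2 = 1
  · -- the centralizer of `y` has order four
    have hzB : z ∈ (centralizer ({y} : Set S)) := mem_centralizer_singleton_iff.2 (mem_center_iff.1 hzc y).symm
    have hBT : (centralizer ({y} : Set S)) ⊓ T = zpowers z := by
      refine le_antisymm (fun x hx => ?_) (zpowers_le.2 ⟨hzB, h.le_cen hzU⟩)
      rw [CfsgLib.MacWilliams.mem_zpowers_of_sq_eq_one (hUsq z hzU)]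
      rcases h.cases' (hωT x hx.2 (hsq x hx.1 hx.2)) with e | e | e | e
      · exact Or.inl e
      · exact Or.inr e
      all_goals
        exfalso
        refine hyT (h.mem_cen.2 ?_)
        have hcm := mem_centralizer_singleton_iff.1 hx.1
        rw [e] at hcm
      · exact hcm.symm
      · rw [mul_assoc, ← mul_assoc y z, mem_center_iff.1 hzc y, mul_assoc] at hcm
        exact (mul_left_cancel hcm).symm
    have hB4 : Nat.card (centralizer ({y} : Set S)) = 4 := by
      have hrel : T.relIndex (centralizer ({y} : Set S)) = 2 := by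
        haveI := normal_of_index_eq_two hidx
        have hdvd : T.relIndex (centralizer ({y} : Set S)) ∣ 2 := hidx ▸ Subgroup.relIndex_dvd_index_of_normal T (centralizer ({y} : Set S)) 
        refine ((Nat.dvd_prime Nat.prime_two).1 hdvd).resolve_left fun h1 => ?_
        exact hyT (Subgroup.relIndex_eq_one.1 h1 (mem_cen_self y))
      have := (T.subgroupOf (centralizer ({y} : Set S))).card_mul_index
      rw [show (T.subgroupOf (centralizer ({y} : Set S))).index = 2 from hrel] at this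
      rw [← this, ← inf_subgroupOf_right T (centralizer ({y} : Set S)), Nat.card_congr (subgroupOfEquivOfLe inf_le_right).toEquiv,
        inf_comm, hBT, Nat.card_zpowers, hzo]
    refine types_of_four hS (fun hcm => h.nc (mem_center_iff.2 fun g => hcm.is_comm.comm g u)) (centralizer ({y} : Set S)) hB4
      (fun g hg => mem_centralizer_singleton_iff.2 (mem_centralizer_iff.1 hg y (mem_cen_self y)).symm)
      hzo (ord_of_sq (hUsq u huU) h.u_ne) h.u_ne_z.symm
  push Not at hsq
  obtain ⟨x, hxB, hxT, hx2⟩ := hsq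
  obtain ⟨k, hk⟩ := IsPGroup.iff_orderOf.1 hS x
  have hk2 : 2 ≤ k := by
    by_contra hlt
    exact hx2 (orderOf_dvd_iff_pow_eq_one.1 (hk ▸ Nat.pow_dvd_pow 2 (show k ≤ 1 by omega)))
  obtain ⟨k, rfl⟩ : ∃ j, k = j + 2 := ⟨k - 2, by omega⟩
  set q : (centralizer ({y} : Set S)) := (⟨x, hxB⟩ : (centralizer ({y} : Set S))) ^ 2 ^ k with hq
  have hqo : orderOf ((q : S) ^ 2) = 2 := by
    rw [hq, SubgroupClass.coe_pow, ← pow_mul, ← pow_succ, orderOf_pow_of_dvd (by positivity)
      (by rw [hk]; exact Nat.pow_dvd_pow 2 (by omega)), hk, show k + 2 = k + 1 + 1 from rfl, pow_succ 2 (k + 1),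
      Nat.mul_div_cancel_left _ (by positivity)]
  have hqT : (q : S) ^ 2 ∈ T := by rw [hq, SubgroupClass.coe_pow]; exact pow_mem (pow_mem hxT _) _
  have hqz : (q : S) ^ 2 = z := by
    have hqB : (q : S) ^ 2 ∈ (centralizer ({y} : Set S)) := pow_mem q.2 2
    rcases h.cases' (hωT _ hqT (sq_of_ord hqo)) with e | e | e | e
    · rw [e, orderOf_one] at hqo; omega
    · exact e
    all_goals
      exfalso
      refine hyT (h.mem_cen.2 ?_)
      have hcm := mem_centralizer_singleton_iff.1 hqB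
      rw [e] at hcm
    · exact hcm.symm
    · rw [mul_assoc, ← mul_assoc y z, mem_center_iff.1 hzc y, mul_assoc] at hcm
      exact (mul_left_cancel hcm).symm
  have hzB : z ∈ (centralizer ({y} : Set S)) := hqz ▸ pow_mem q.2 2
  set v := ψ ⟨z, hzB⟩ with hv
  have hvo : orderOf v = 2 := by
    rw [hv, orderOf_injective ψ (sys.inj _ ψ hψ), ← orderOf_coe]; exact hzo
  have hvz : v ≠ z := fun e => by
    have := congrArg Subtype.val (sys.inj _ ψ hψ (e.trans hψy.symm : ψ ⟨z, hzB⟩ = ψ ⟨y, mem_cen_self y⟩))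
    exact hyz this.symm
  have hvU : v ∈ U := by
    refine hωT v ?_ (sq_of_ord hvo)
    have : v = ψ q ^ 2 := by
      rw [hv, ← map_pow]; exact congrArg ψ (Subtype.ext hqz.symm)
    rw [this, pow_two]
    exact mul_self_mem_of_index_two hidx _
  obtain ⟨χ, hχ, hχe⟩ := sys.back _ ψ hψ ⟨z, hzB⟩ hzc
  exact fin hvU hvz (fun e => by rw [e, orderOf_one] at hvo; omega) χ hχ (hχe _)

end CfsgLib.RankTwoTypes
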