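import Cfsg.Agent.Lib.RankTwoTypes.Unitary
import Cfsg.Agent.Lib.Coprime.Basic
import Cfsg.Agent.S1237

/-!
# The case where the automizer of the centraliser of a normal four-group fuses it
-/

set_option autoImplicit false

namespace CfsgLib.RankTwoTypes

open Subgroup Equiv

universe u v

theorem zmod_half {n : ℕ} (a : ZMod (2 ^ (n + 1))) (h : a + a = 0) :
    ∃ b : ZMod (2 ^ (n + 1)), (2 ^ n : ℕ) • b = a := by
  haveI : NeZero (2 ^ (n + 1)) := ⟨by positivity⟩
  rcases (ZMod.neg_eq_self_iff a).1 (neg_eq_of_add_eq_zero_left h) with e | e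
  · exact ⟨0, by rw [e, smul_zero]⟩
  · refine ⟨1, ?_⟩
    rw [nsmul_eq_mul, mul_one]
    have : a.val = 2 ^ n := by
      have : 2 ^ (n + 1) = 2 ^ n * 2 := pow_succ 2 n
      omega
    exact (ZMod.natCast_zmod_val a).symm.trans (congrArg Nat.cast this) |>.symm

variable {S : Type u} [Group S] [Finite S]

/-- A homocyclic subgroup of index 2 with its two bottom involutions swapped outside. -/
theorem wreathed_of_swap {U : Type v} [Group U] (hS : IsPGroup 2 S) (T : Subgroup S) (hidx : T.index = 2)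
    (hC : centralizer (T : Set S) ≤ T) {a b c : S} (hna : c * a * c⁻¹ = b) (hc : c ∉ T)
    (haT : a ∈ T) (ha : orderOf a = 2) (hb : orderOf b = 2) (hab : a ≠ b) {n : ℕ}
    (e : T ≃* Multiplicative (ZMod (2 ^ (n + 1)) × ZMod (2 ^ (n + 1)))) : Types S U := by
  haveI : Fact (Nat.Prime 2) := ⟨Nat.prime_two⟩
  haveI hTn : T.Normal := normal_of_index_eq_two hidx
  have hcardT : Nat.card T = 2 ^ (n + 1) * 2 ^ (n + 1) := by
    rw [Nat.card_congr e.toEquiv, Nat.card_congr Multiplicative.toAdd, Nat.card_prod, Nat.card_zmod]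
  rcases Nat.eq_zero_or_pos n with rfl | hn
  · refine types_of_four hS (fun hcm => hab ?_) T (by rw [hcardT]; norm_num) hC ha hb hab
    rw [← hna, hcm.is_comm.comm c a, mul_inv_cancel_right]
  have hTc : ∀ p ∈ T, ∀ q ∈ T, p * q = q * p := fun p hp q hq =>
    congrArg Subtype.val (e.injective (by rw [map_mul, map_mul, mul_comm]) :
      (⟨p, hp⟩ : T) * ⟨q, hq⟩ = ⟨q, hq⟩ * ⟨p, hp⟩)
  have hexp : ∀ g ∈ T, g ^ 2 ^ (n + 1) = 1 := fun g hg => congrArg Subtype.val (e.injective (by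
    rw [map_pow, map_one]
    apply Multiplicative.toAdd.injective
    rw [toAdd_pow, toAdd_one, nsmul_eq_mul]
    ext <;> simp only [Prod.fst_mul, Prod.snd_mul, Prod.fst_natCast, Prod.snd_natCast, ZMod.natCast_self, zero_mul,
      Prod.fst_zero, Prod.snd_zero]) :
    (⟨g, hg⟩ : T) ^ 2 ^ (n + 1) = 1)
  obtain ⟨x, hxT, hxa⟩ : ∃ x ∈ T, x ^ 2 ^ n = a := by
    set w := Multiplicative.toAdd (e ⟨a, haT⟩) with hw
    have hww : w + w = 0 := by
      rw [hw, ← toAdd_mul, ← map_mul, show (⟨a, haT⟩ : T) * ⟨a, haT⟩ = 1 from Subtype.ext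
        (by show a * a = 1; rw [← pow_two, sq_of_ord ha]), map_one, toAdd_one]
    obtain ⟨b1, hb1⟩ := zmod_half w.1 (congrArg Prod.fst hww)
    obtain ⟨b2, hb2⟩ := zmod_half w.2 (congrArg Prod.snd hww)
    refine ⟨e.symm (Multiplicative.ofAdd (b1, b2)), SetLike.coe_mem _, congrArg Subtype.val
      (e.injective ?_ : (e.symm (Multiplicative.ofAdd (b1, b2))) ^ 2 ^ n = ⟨a, haT⟩)⟩
    rw [map_pow, MulEquiv.apply_symm_apply]
    apply Multiplicative.toAdd.injective
    rw [toAdd_pow, toAdd_ofAdd, Prod.smul_mk, hb1, hb2]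
  set y := c * x * c⁻¹ with hy
  have hyT : y ∈ T := hTn.conj_mem x hxT c
  have hyb : y ^ 2 ^ n = b := by rw [hy, conj_pow, hxa, hna]
  have hord : ∀ g ∈ T, g ^ 2 ^ n ≠ 1 → orderOf g = 2 ^ (n + 1) := fun g hg h1 =>
    orderOf_eq_prime_pow h1 (hexp g hg)
  have hox : orderOf x = 2 ^ (n + 1) := hord x hxT (by
    rw [hxa]; intro h; rw [h, orderOf_one] at ha; omega)
  have hoy : orderOf y = 2 ^ (n + 1) := by rw [hy, ← MulAut.conj_apply, MulEquiv.orderOf_eq, hox]
  have hinf : zpowers x ⊓ zpowers y = ⊥ := by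
    rw [eq_bot_iff]
    intro w hw
    rw [mem_bot]
    by_contra hw1
    obtain ⟨k, hk⟩ : ∃ k, orderOf w = 2 ^ (k + 1) := by
      obtain ⟨k, hk⟩ := IsPGroup.iff_orderOf.1 hS w
      cases k with
      | zero => exact absurd (orderOf_eq_one_iff.1 (by simpa using hk)) hw1
      | succ k => exact ⟨k, hk⟩
    have hj : orderOf (w ^ 2 ^ k) = 2 := by
      rw [orderOf_pow_of_dvd (by positivity) (hk ▸ Nat.pow_dvd_pow 2 (by omega)), hk, pow_succ,
        Nat.mul_div_cancel_left _ (by positivity)]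
    have key : ∀ g h : S, h = g ^ 2 ^ n → orderOf h = 2 → ∀ j ∈ zpowers g, orderOf j = 2 → j = h := by
      rintro g _ rfl hh j hj' hj2
      exact congrArg Subtype.val (CfsgLib.MetaTwoFusion.eq_of_sq_eq_one_of_isCyclic
        (y := (⟨j, hj'⟩ : zpowers g)) (z := ⟨g ^ 2 ^ n, pow_mem (mem_zpowers g) _⟩)
        (Subtype.ext (sq_of_ord hj2)) (Subtype.ext (sq_of_ord hh))
        (fun h => by have : j = 1 := congrArg Subtype.val h; rw [this, orderOf_one] at hj2; omega)
        (fun h => by have : g ^ 2 ^ n = 1 := congrArg Subtype.val h; rw [this, orderOf_one] at hh; omega))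
    have h1 := key x a hxa.symm ha _ (pow_mem hw.1 _) hj
    have h2 := key y b hyb.symm hb _ (pow_mem hw.2 _) hj
    exact hab (h1.symm.trans h2)
  have hcx : ∀ g ∈ T, c * g * c⁻¹ ∈ T := fun g hg => hTn.conj_mem g hg c
  have hcc : c * c ∈ T := mul_self_mem_of_index_two hidx c
  have hcy : c * y * c⁻¹ = x := by
    calc c * y * c⁻¹ = c * c * x * (c * c)⁻¹ := by rw [hy]; group
      _ = x := by rw [hTc _ hcc _ hxT, mul_inv_cancel_right]
  have hT : zpowers x ⊔ zpowers y = T := by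
    refine eq_of_le_of_card_ge (sup_le (zpowers_le.2 hxT) (zpowers_le.2 hyT)) (le_of_eq ?_)
    have hn' : zpowers x ≤ normalizer (zpowers y : Set S) := by
      refine le_trans (zpowers_le.2 ?_) (centralizer_le_normalizer _)
      rw [mem_centralizer_iff]
      rintro _ ⟨j, rfl⟩
      exact hTc _ (T.zpow_mem hyT j) _ hxT
    have h := CfsgLib.Coprime.card_sup_mul_card_inf hn'
    simp only [hinf, sup_comm (zpowers y), inf_comm (zpowers y), card_bot, Nat.card_zpowers, hox, hoy,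
      mul_one] at h
    rw [hcardT, h]
  obtain ⟨p, hp, q, hq, hpq⟩ : ∃ p ∈ zpowers x, ∃ q ∈ zpowers y, p * q = c * c := by
    have hmem := hT.ge hcc
    have hn' : zpowers x ≤ normalizer (zpowers y : Set S) := by
      refine le_trans (zpowers_le.2 ?_) (centralizer_le_normalizer _)
      rw [mem_centralizer_iff]
      rintro _ ⟨j, rfl⟩
      exact hTc _ (T.zpow_mem hyT j) _ hxT
    rw [← SetLike.mem_coe, Subgroup.coe_mul_of_left_le_normalizer_right _ _ hn'] at hmem
    obtain ⟨p, hp, q, hq, h⟩ := hmem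
    exact ⟨p, hp, q, hq, h⟩
  obtain ⟨i, rfl⟩ := hp
  obtain ⟨j, rfl⟩ := hq
  have hzp : ∀ (g h : S) (k : ℤ), c * g * c⁻¹ = h → c * g ^ k * c⁻¹ = h ^ k := fun g h k e => by
    rw [← e, conj_zpow]
  have hswap : x ^ i * y ^ j = y ^ i * x ^ j := by
    calc x ^ i * y ^ j = c * c := hpq
      _ = c * (x ^ i * y ^ j) * c⁻¹ := by
        show c * c = c * _ * c⁻¹
        rw [hpq]; group
      _ = (c * x ^ i * c⁻¹) * (c * y ^ j * c⁻¹) := by group
      _ = y ^ i * x ^ j := by rw [hzp x y i hy.symm, hzp y x j hcy]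
  have hij : x ^ i = x ^ j := by
    have h1 : x ^ (i - j) = y ^ (i - j) := by
      have hcm := hTc _ (T.zpow_mem hyT i) _ (T.zpow_mem hxT j)
      rw [hcm] at hswap
      rw [zpow_sub, zpow_sub]
      calc x ^ i * (x ^ j)⁻¹ = (x ^ j)⁻¹ * (x ^ i * y ^ j) * (y ^ j)⁻¹ := by
            rw [hTc _ (T.zpow_mem hxT i) _ (T.inv_mem (T.zpow_mem hxT j))]; group
        _ = y ^ i * (y ^ j)⁻¹ := by rw [hswap]; group
    have : x ^ (i - j) ∈ (⊥ : Subgroup S) := hinf ▸ ⟨zpow_mem (mem_zpowers x) _, h1 ▸ zpow_mem (mem_zpowers y) _⟩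
    rwa [mem_bot, zpow_sub, mul_inv_eq_one] at this
  have hyij : y ^ i = y ^ j := by rw [← hzp x y i hy.symm, ← hzp x y j hy.symm, hij]
  set z := c * (x ^ i)⁻¹ with hz
  have hzT : z ∉ T := fun h => hc ((Subgroup.mul_mem_cancel_right _ (T.inv_mem (T.zpow_mem hxT i))).1 h)
  have hzz : z * z = 1 := by
    have e1 : c * (x ^ i)⁻¹ * c⁻¹ = (y ^ i)⁻¹ := by rw [← hzp x y i hy.symm]; group
    calc z * z = (c * (x ^ i)⁻¹ * c⁻¹) * (c * c) * (x ^ i)⁻¹ := by rw [hz]; group
      _ = (y ^ i)⁻¹ * (x ^ i * y ^ i) * (x ^ i)⁻¹ := by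
        rw [e1, ← show x ^ i * y ^ j = c * c from hpq, hyij]
      _ = 1 := by rw [hTc _ (T.zpow_mem hxT i) _ (T.zpow_mem hyT i)]; group
  refine Or.inr (Or.inr (Or.inl ⟨n + 1, by omega, ?_, x, y, z, hox, hTc x hxT y hyT, hinf,
    ord_of_sq (by rw [pow_two, hzz]) (fun e => hzT (e ▸ T.one_mem)), ?_⟩))
  · rw [← T.card_mul_index, hidx, hcardT, ← pow_add, ← pow_succ]
    congr 1
    omega
  · rw [hz, hy]
    group

variable {F : Type*} [Field F] [Fintype F]

/-- The centraliser of a normal four-group with an automorphism fusing it. -/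
theorem types_of_fused (hS : IsPGroup 2 S) (h2 : Cfsg.PRankLE 2 2 S) (hF : Fintype.card F = 16)
    (Q : Sylow 2 (Cfsg.PSU 3 F 4)) {U : Subgroup S} {z u : S} (h : Four U z u)
    (T : Subgroup S) (hT : T = centralizer (U : Set S))
    (φ : MulAut T) (hφ : ∀ hu : u ∈ T, ((φ ⟨u, hu⟩ : _) : S) = z)
    [hTn : T.Normal] (E : Subgroup (MulAut T))
    (hE : (MulAut.conjNormal : S →* MulAut T).range ≤ E)
    (hodd : Odd ((MulAut.conjNormal : S →* MulAut T).range.relIndex E))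
    (hφE : φ ∈ E) : Types S (Q : Subgroup (Cfsg.PSU 3 F 4)) := by
  haveI : Fact (Nat.Prime 2) := ⟨Nat.prime_two⟩
  haveI := h.nor
  have hUT : U ≤ T := hT ▸ h.le_cen
  have hidx : T.index = 2 := hT ▸ h.index_cen
  have hzo : orderOf z = 2 := ord_of_sq (h.sq z h.hz) h.z_ne
  have huo : orderOf u = 2 := ord_of_sq (h.sq u h.hu) h.u_ne
  have hzu : orderOf (z * u) = 2 := ord_of_sq (h.sq _ (U.mul_mem h.hz h.hu)) h.zu_ne.1
  let f : Fin 3 → T := ![⟨z, hUT h.hz⟩, ⟨u, hUT h.hu⟩, ⟨z * u, hUT (U.mul_mem h.hz h.hu)⟩]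
  have hf : Function.Injective f := by
    obtain ⟨-, h2', h3'⟩ := h.zu_ne
    intro a b hab
    fin_cases a <;> fin_cases b <;> simp [f, h.u_ne_z, h.u_ne_z.symm, h2', h2'.symm, h3', h3'.symm] at hab ⊢
  have hmem : ∀ x : T, orderOf x = 2 ↔ ∃ i, f i = x := by
    refine fun x => ⟨fun hx => ?_, ?_⟩
    · rw [← orderOf_coe] at hx
      rcases h.cases' (mem_of_commute_involution h2 U h.card h.sq (hT ▸ x.2) (sq_of_ord hx)) with e | e | e | e
      · rw [e, orderOf_one] at hx; omega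
      exacts [⟨0, Subtype.ext e.symm⟩, ⟨1, Subtype.ext e.symm⟩, ⟨2, Subtype.ext e.symm⟩]
    · rintro ⟨i, rfl⟩
      rw [← orderOf_coe]
      fin_cases i
      exacts [hzo, huo, hzu]
  obtain ⟨π, hπ⟩ := exists_three_hom hf hmem
  obtain ⟨g, hg⟩ : ∃ g : S, g ∉ T := by
    by_contra hc
    push Not at hc
    rw [show T = ⊤ from eq_top_iff.2 fun g _ => hc g, index_top] at hidx
    omega
  set c : MulAut T := MulAut.conjNormal g with hcdef
  have hπc : π c 0 = 0 ∧ π c 1 = 2 ∧ π c 2 ≠ 2 := by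
    have e0 : π c 0 = 0 := hf (by
      rw [hπ]
      refine Subtype.ext ?_
      rw [hcdef, MulAut.conjNormal_apply]
      show g * z * g⁻¹ = z
      rw [mem_center_iff.1 h.cen g, mul_inv_cancel_right])
    have e1 : π c 1 = 2 := hf (by
      rw [hπ]
      refine Subtype.ext ?_
      rw [hcdef, MulAut.conjNormal_apply]
      exact h.u_conj_of_notMem (hT ▸ hg))
    exact ⟨e0, e1, fun e2 => absurd ((π c).injective (e1.trans e2.symm)) (by decide)⟩
  have hφ1 : π φ 1 = 0 := hf (by rw [hπ]; exact Subtype.ext (hφ _))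
  have hmove : ∀ i, ∃ x ∈ E, π x i ≠ i := by
    intro i
    fin_cases i
    · refine ⟨φ, hφE, fun e => ?_⟩
      exact absurd ((π φ).injective (e.trans hφ1.symm)) (by decide)
    · exact ⟨φ, hφE, fun e => absurd (hφ1.symm.trans e) (by decide)⟩
    · exact ⟨c, hE ⟨g, rfl⟩, hπc.2.2⟩
  obtain ⟨ψ, hψE, hψ⟩ := exists_fpf π E hmove
  have h2T : Cfsg.PRankLE 2 2 T := by
    intro A hA hA2
    haveI := hA
    rw [Nat.card_congr (A.equivMapOfInjective _ T.subtype_injective).toEquiv]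
    exact h2 _ inferInstance (by rintro _ ⟨a, ha, rfl⟩; exact congrArg Subtype.val (hA2 a ha))
  have h1T : ¬ Cfsg.PRankLE 2 1 T := fun h1 => by
    have := h1 (U.subgroupOf T) (comm_of_sq fun a ha => Subtype.ext (h.sq a ha)) fun a ha => Subtype.ext (h.sq a ha)
    rw [Nat.card_congr (subgroupOfEquivOfLe hUT).toEquiv, h.card] at this
    norm_num at this
  have hCT : centralizer (T : Set S) ≤ T := fun g hg => hT.symm ▸ centralizer_le hUT hg
  rcases Cfsg.Agent.S1237.result (hS.to_subgroup T) h2T h1T ψ (transitive_of_fpf hmem π hπ hψ) hF Q with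
    ⟨n, hn, ⟨e⟩⟩ | he
  · obtain ⟨n, rfl⟩ : ∃ k, n = k + 1 := ⟨n - 1, by omega⟩
    exact wreathed_of_swap hS T hidx hCT (h.u_conj_of_notMem (hT ▸ hg)) hg (hUT h.hu) huo hzu
      h.zu_ne.2.2.symm e
  · exfalso
    obtain ⟨e⟩ := he
    have hF' : Fintype.card F = 4 ^ 2 := by rw [hF]; norm_num
    have he : Even 4 := by decide
    let _ := CfsgLib.InvCharThree.hermGroup hF' he
    obtain ⟨g'⟩ := CfsgLib.InvCharThree.herm_equiv_sylow_psu hF' he (n := 2) (by norm_num) Q
    have hlike := CfsgLib.InvCharSixtyFour.hermLike_of_equiv (g'.trans e.symm)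
      (CfsgLib.InvCharSixtyFour.hermLike_herm hF' he)
    set K := (MulAut.conjNormal : S →* MulAut T).range with hK
    have hI : (MulAut.conj : T →* MulAut T).range ≤ K := by
      rintro _ ⟨t, rfl⟩
      exact ⟨t, MulEquiv.ext fun x => Subtype.ext (by simp [MulAut.conjNormal_apply])⟩
    refine no_unitary hlike hmem π hπ E K hE hI ?_ hodd ⟨c, ⟨g, rfl⟩, perm_sign_fix _ hπc.1 hπc.2.1⟩ hψE hψ
    set cn := (MulAut.conjNormal : S →* MulAut T) with hcn
    have hmap : (MulAut.conj : T →* MulAut T).range = T.map cn := by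
      ext α
      constructor
      · rintro ⟨t, rfl⟩
        exact ⟨t, t.2, MulEquiv.ext fun x => Subtype.ext (by simp [hcn, MulAut.conjNormal_apply])⟩
      · rintro ⟨t, ht, rfl⟩
        exact ⟨⟨t, ht⟩, MulEquiv.ext fun x => Subtype.ext (by simp [hcn, MulAut.conjNormal_apply])⟩
    rw [hmap, hK, MonoidHom.range_eq_map cn, Subgroup.relIndex_map_map, top_sup_eq,
      Subgroup.relIndex_top_right]
    exact (Subgroup.index_dvd_of_le le_sup_left).trans (dvd_of_eq hidx)

end CfsgLib.RankTwoTypes
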