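import Cfsg.Agent.Lib.RankTwoTypes.Basic
import Cfsg.Agent.Lib.InvChar.HermNoSymThree

/-!
# The exceptional group of order 64 has no outer transposition
-/

set_option autoImplicit false

namespace CfsgLib.RankTwoTypes

open Subgroup Equiv
open CfsgLib.InvCharSixtyFour (HermLike no_inverted_three)

theorem perm_sign_fpf : ∀ σ : Perm (Fin 3), (∀ i, σ i ≠ i) → Equiv.Perm.sign σ = 1 := by decide +kernel

theorem perm_sign_fix : ∀ σ : Perm (Fin 3), σ 0 = 0 → σ 1 = 2 → Equiv.Perm.sign σ = -1 := by decide +kernel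

theorem perm_comm_ne : ∀ σ τ : Perm (Fin 3), (∀ i, σ i ≠ i) → Equiv.Perm.sign τ = -1 →
    σ⁻¹ * τ * σ * τ⁻¹ ≠ 1 := by decide +kernel

theorem perm_pow_fpf : ∀ σ : Perm (Fin 3), (∀ i, σ i ≠ i) → σ ^ 3 = 1 ∧ (∀ i, (σ ^ 2) i ≠ i) := by
  decide +kernel

theorem fpf_pow {σ : Perm (Fin 3)} (h : ∀ i, σ i ≠ i) {m : ℕ} (hm : ¬ 3 ∣ m) : ∀ i, (σ ^ m) i ≠ i := by
  obtain ⟨h3, h2⟩ := perm_pow_fpf σ h
  rw [pow_eq_pow_mod m h3]
  obtain e | e : m % 3 = 1 ∨ m % 3 = 2 := by omega
  all_goals rw [e]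
  · simpa using h
  · exact h2

/-- A group of automorphisms with small Sylow 2-subgroup cannot move the centre by both a 3-cycle and a
transposition. -/
theorem no_unitary {T : Type*} [Group T] [Finite T] (h : HermLike T 4) {f : Fin 3 → T}
    (hmem : ∀ x, orderOf x = 2 ↔ ∃ i, f i = x) (π : MulAut T →* Perm (Fin 3))
    (hπ : ∀ (α : MulAut T) i, f (π α i) = α (f i)) (E C : Subgroup (MulAut T)) (hC : C ≤ E)
    (hI : (MulAut.conj : T →* MulAut T).range ≤ C)
    (hCI : (MulAut.conj : T →* MulAut T).range.relIndex C ∣ 2) (hodd : Odd (C.relIndex E))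
    (hneg : ∃ c ∈ C, Equiv.Perm.sign (π c) = -1) {φ : MulAut T} (hφE : φ ∈ E) (hφ : ∀ i, π φ i ≠ i) :
    False := by
  classical
  let _ := Fintype.ofFinite T
  haveI : Fact (Nat.Prime 2) := ⟨Nat.prime_two⟩
  haveI : Fact (Nat.Prime 3) := ⟨Nat.prime_three⟩
  set I := (MulAut.conj : T →* MulAut T).range with hIdef
  haveI hIn : I.Normal := ⟨by
    rintro _ ⟨t, rfl⟩ α
    exact ⟨α t, MulEquiv.ext fun x => by simp [map_mul]⟩⟩
  set R : Subgroup E := (Equiv.Perm.sign.comp (π.comp E.subtype)).ker with hR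
  have hRmem : ∀ a : E, a ∈ R ↔ Equiv.Perm.sign (π a) = 1 := fun a => Iff.rfl
  haveI : R.Normal := MonoidHom.normal_ker _
  have hcen : ∀ i, f i ∈ center T := fun i => by
    refine h.sq_one _ ?_
    rw [← pow_two, ← (hmem _).2 ⟨i, rfl⟩, pow_orderOf_eq_one]
  have hcenmem : ∀ x ∈ center T, x ≠ 1 → ∃ i, f i = x := fun x hx hx1 =>
    (hmem x).1 (orderOf_eq_prime (by rw [pow_two]; exact h.center_sq x hx) hx1)
  have hfinj : Function.Injective f := by
    -- there are exactly three involutions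
    have hsurj : ∀ x : {x : center T // x ≠ 1}, ∃ i, f i = ((x : center T) : T) := fun x =>
      hcenmem _ x.1.2 fun e => x.2 (Subtype.ext e)
    choose j hj using hsurj
    have hjinj : Function.Injective j := fun a b e => Subtype.ext (Subtype.ext (by rw [← hj, ← hj, e]))
    have hc : Fintype.card {x : center T // x ≠ 1} = 3 := by
      rw [Fintype.card_subtype_compl, Fintype.card_subtype_eq, ← Nat.card_eq_fintype_card, h.card_center]
    have hb := (Fintype.bijective_iff_injective_and_card j).2 ⟨hjinj, by rw [hc, Fintype.card_fin]⟩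
    intro a b e
    obtain ⟨x, rfl⟩ := hb.2 a
    obtain ⟨y, rfl⟩ := hb.2 b
    rw [hj, hj] at e
    rw [Subtype.ext (Subtype.ext e : (x : center T) = y)]
  have hπI : ∀ a ∈ I, π a = 1 := by
    rintro _ ⟨t, rfl⟩
    refine Equiv.ext fun i => hfinj ?_
    rw [hπ, Perm.one_apply, MulAut.conj_apply, mem_center_iff.1 (hcen i) t, mul_inv_cancel_right]
  -- the image of `T` is a normal 2-subgroup of odd index in `R`
  set I' : Subgroup E := I.subgroupOf E with hI'
  have hIR : I' ≤ R := fun a ha => by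
    rw [hRmem, hπI _ (mem_subgroupOf.1 ha), map_one]
  have hRI : Odd (I'.relIndex R) := by
    obtain ⟨c, hcC, hc⟩ := hneg
    have h2 : R.index = 2 := by
      rw [hR, Subgroup.index_ker]
      have htop : (Equiv.Perm.sign.comp (π.comp E.subtype)).range = ⊤ := by
        refine eq_top_iff.2 fun s _ => ?_
        rcases Int.units_eq_one_or s with rfl | rfl
        · exact one_mem _
        · exact ⟨⟨c, hC hcC⟩, hc⟩
      rw [htop, card_top, Nat.card_eq_fintype_card, Fintype.card_units_int]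
    have h3 : I'.relIndex R * R.index = I'.index := Subgroup.relIndex_mul_index hIR
    have h4 : I'.index = I.relIndex E := rfl
    have h5 : I.relIndex C * C.relIndex E = I.relIndex E := Subgroup.relIndex_mul_relIndex I C E hI hC
    rw [h2, h4, ← h5] at h3
    obtain ⟨d, hd⟩ := hodd
    rcases (Nat.dvd_prime Nat.prime_two).1 hCI with e | e <;> rw [e] at h3
    · omega
    · rw [Nat.odd_iff]; omega
  have hI'2 : IsPGroup 2 I' := by
    have hIp : IsPGroup 2 I := by
      exact (IsPGroup.of_card (n := 6) (by rw [h.card]; norm_num) : IsPGroup 2 T).of_surjective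
        _ (MulAut.conj : T →* MulAut T).rangeRestrict_surjective
    exact hIp.comap_subtype
  have hmemI : ∀ a ∈ R, (∃ k : ℕ, a ^ 2 ^ k = 1) → a ∈ I' := by
    rintro a ha ⟨k, hk⟩
    have hpow : (⟨a, ha⟩ : R) ^ I'.relIndex R ∈ I'.subgroupOf R := Subgroup.pow_index_mem _ _
    rw [mem_subgroupOf] at hpow
    push_cast at hpow
    have hco : Nat.Coprime (I'.relIndex R) (2 ^ k) := (Nat.coprime_two_right.mpr hRI).pow_right k
    obtain ⟨x, y, hxy⟩ := Nat.Coprime.isCoprime hco
    have := I'.zpow_mem hpow x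
    rw [← zpow_natCast, ← zpow_mul] at this
    have e : ((I'.relIndex R : ℕ) : ℤ) * x = 1 - y * ((2 ^ k : ℕ) : ℤ) := by linarith
    rw [e, zpow_sub, zpow_one, mul_comm y, zpow_mul, zpow_natCast, hk, one_zpow, inv_one, mul_one] at this
    exact this
  -- a 3-element moving the centre
  obtain ⟨a3, m3, hm3, hord⟩ := Nat.exists_eq_pow_mul_and_not_dvd (orderOf_pos (⟨φ, hφE⟩ : E)).ne' 3 (by norm_num)
  set p : E := (⟨φ, hφE⟩ : E) ^ m3 with hp
  have hpπ : ∀ i, π p i ≠ i := by
    rw [hp, SubgroupClass.coe_pow, map_pow]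
    exact fpf_pow hφ hm3
  have hpR : p ∈ R := (hRmem p).2 (perm_sign_fpf _ hpπ)
  have hpp : IsPGroup 3 (zpowers (⟨p, hpR⟩ : R)) := by
    refine IsPGroup.of_card (n := a3) ?_
    rw [Nat.card_zpowers, ← Subgroup.orderOf_coe]
    show orderOf p = 3 ^ a3
    have hd : m3 ∣ orderOf (⟨φ, hφE⟩ : E) := hord ▸ dvd_mul_left _ _
    rw [hp, orderOf_pow_of_dvd (fun e => hm3 (by rw [e]; exact dvd_zero 3)) hd, hord,
      Nat.mul_div_cancel _ (Nat.pos_of_ne_zero fun e => hm3 (by rw [e]; exact dvd_zero 3))]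
  obtain ⟨P, hP⟩ := hpp.exists_le_sylow
  set P' := (P : Subgroup R).map R.subtype with hP'
  have hpP : p ∈ P' := ⟨⟨p, hpR⟩, hP (mem_zpowers _), rfl⟩
  -- an element of 2-power order normalizing `P'` and inducing a transposition
  obtain ⟨y, hyN, hy2, hys⟩ : ∃ y : E, y ∈ normalizer (P' : Set E) ∧ (∃ k : ℕ, y ^ 2 ^ k = 1) ∧
      Equiv.Perm.sign (π y) = -1 := by
    obtain ⟨c, hcC, hc⟩ := hneg
    have htop : normalizer (P' : Set E) ⊔ R = ⊤ := P.normalizer_sup_eq_top
    have hcm : (⟨c, hC hcC⟩ : E) ∈ normalizer (P' : Set E) ⊔ R := htop ▸ mem_top _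
    rw [Subgroup.mem_sup_of_normal_right] at hcm
    obtain ⟨n, hn, r, hr, hnr⟩ := hcm
    have hns : Equiv.Perm.sign (π n) = -1 := by
      have := congrArg (fun q : E => Equiv.Perm.sign (π q)) hnr
      simp only [Subgroup.coe_mul, map_mul, (hRmem r).1 hr, mul_one] at this
      rw [this]; exact hc
    obtain ⟨a2, m2, hm2, hord2⟩ := Nat.exists_eq_pow_mul_and_not_dvd (orderOf_pos n).ne' 2 (by norm_num)
    refine ⟨n ^ m2, pow_mem hn _, ⟨a2, by rw [← pow_mul, mul_comm, ← hord2, pow_orderOf_eq_one]⟩, ?_⟩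
    rw [SubgroupClass.coe_pow, map_pow, map_pow, hns]
    exact Odd.neg_one_pow (Nat.odd_iff.2 (by omega))
  have hyP : ∀ a ∈ P', y * a * y⁻¹ ∈ P' := fun a ha => (mem_normalizer_iff.1 hyN a).1 ha
  have hyy : y * y = 1 := by
    have hyyR : y * y ∈ R := by rw [hRmem, Subgroup.coe_mul, map_mul, map_mul, hys]; rfl
    obtain ⟨k, hk⟩ := hy2
    have hmem2 : y * y ∈ I' := hmemI _ hyyR ⟨k, by rw [← pow_two, ← pow_mul, mul_comm, pow_mul, hk, one_pow]⟩
    have hIP : I' ⊓ P' = ⊥ :=
      disjoint_iff.1 (IsPGroup.disjoint_of_ne 2 3 (by norm_num) I' P' hI'2 (P.2.map R.subtype))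
    have hcm : p * (y * y) * p⁻¹ * (y * y)⁻¹ ∈ I' ⊓ P' := by
      refine ⟨I'.mul_mem (Subgroup.Normal.conj_mem inferInstance _ hmem2 p) (I'.inv_mem hmem2), ?_⟩
      have := hyP _ (hyP _ (P'.inv_mem hpP))
      have h' := P'.mul_mem hpP this
      rw [show p * (y * y) * p⁻¹ * (y * y)⁻¹ = p * (y * (y * p⁻¹ * y⁻¹) * y⁻¹) by group]
      exact h'
    rw [hIP, mem_bot, mul_inv_eq_one] at hcm
    obtain ⟨t, ht⟩ := mem_subgroupOf.1 hmem2
    have e : (MulAut.conj ((p : MulAut T) t)) = MulAut.conj t := by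
      have := congrArg Subtype.val hcm
      push_cast at this
      rw [Subgroup.coe_mul] at ht
      rw [← ht] at this
      rw [← this]
      exact MulEquiv.ext fun x => by simp [map_mul]
    have hz : t⁻¹ * (p : MulAut T) t ∈ center T := mem_center_iff.2 fun x => by
      have := DFunLike.congr_fun e x
      simp only [MulAut.conj_apply] at this
      calc x * (t⁻¹ * (p : MulAut T) t) = t⁻¹ * (t * x * t⁻¹) * (p : MulAut T) t := by group
        _ = t⁻¹ * (p : MulAut T) t * x := by rw [← this]; group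
    have htsq : t * t ∈ center T := h.sq_mem t
    have hfix : (p : MulAut T) (t * t) = t * t := by
      have hpt : (p : MulAut T) t = t * (t⁻¹ * (p : MulAut T) t) := (mul_inv_cancel_left _ _).symm
      have hzz := h.center_sq _ hz
      have hcomm := mem_center_iff.1 hz t
      set w := t⁻¹ * (p : MulAut T) t
      rw [map_mul, hpt, show t * w * (t * w) = t * (w * t) * w by group, ← hcomm,
        show t * (t * w) * w = t * t * (w * w) by group, hzz, mul_one]
    have ht1 : t * t = 1 := by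
      by_contra hne
      obtain ⟨i, hi⟩ := hcenmem _ htsq hne
      exact hpπ i (hfinj (by rw [hπ, hi, hfix]))
    have hy1 : ((y * y : E) : MulAut T) = 1 := by
      rw [← ht]
      exact MulEquiv.ext fun x => by
        rw [MulAut.conj_apply, ← mem_center_iff.1 (h.sq_one t ht1) x, mul_inv_cancel_right]; rfl
    exact Subtype.ext hy1
  -- an element of order three inverted by `y`
  set q : E := p⁻¹ * y * p * y⁻¹ with hq
  have hyi : y⁻¹ = y := inv_eq_of_mul_eq_one_right hyy
  have hqP : q ∈ P' := by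
    have := P'.mul_mem (P'.inv_mem hpP) (hyP p hpP)
    convert this using 1
    rw [hq]; group
  have hqinv : y * q * y⁻¹ = q⁻¹ := by
    rw [hq, mul_inv_rev, mul_inv_rev, mul_inv_rev, inv_inv, inv_inv]
    calc y * (p⁻¹ * y * p * y⁻¹) * y⁻¹ = y * p⁻¹ * y * p * (y * y)⁻¹ := by group
      _ = y * (p⁻¹ * (y⁻¹ * p)) := by rw [hyy, hyi]; group
  have hq1 : q ≠ 1 := fun e => perm_comm_ne (π p) (π y) hpπ hys (by
    have := congrArg (fun a : E => π a) e
    simpa [hq] using this)
  obtain ⟨k, hk⟩ : ∃ k, orderOf q = 3 ^ (k + 1) := by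
    obtain ⟨k, hk⟩ := IsPGroup.iff_orderOf.1 (P.2.map R.subtype) ⟨q, hqP⟩
    rw [← Subgroup.orderOf_coe] at hk
    cases k with
    | zero => exact absurd (orderOf_eq_one_iff.1 (by simpa using hk)) hq1
    | succ k => exact ⟨k, hk⟩
  set ρ : E := q ^ 3 ^ k with hρ
  have hρ3 : ρ * ρ * ρ = 1 := by
    rw [hρ, ← pow_three', ← pow_mul, ← pow_succ, ← hk, pow_orderOf_eq_one]
  have hρ1 : ρ ≠ 1 := fun e => by
    have := orderOf_dvd_of_pow_eq_one e
    rw [hk, Nat.pow_dvd_pow_iff_le_right (by norm_num)] at this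
    omega
  have hρy : y * ρ = ρ * ρ * y := by
    have h1 : y * ρ * y⁻¹ = ρ⁻¹ := by rw [hρ, ← conj_pow, hqinv, inv_pow]
    have h2 : ρ⁻¹ = ρ * ρ := inv_eq_of_mul_eq_one_right (by rw [← mul_assoc]; exact hρ3)
    rw [← h2, ← h1]; group
  refine no_inverted_three h (ρ : MulAut T) (y : MulAut T) ?_ ?_ ?_ ?_
  · intro x
    have := DFunLike.congr_fun (congrArg Subtype.val hρ3) x
    simpa using this
  · by_contra! hall
    exact hρ1 (Subtype.ext (MulEquiv.ext hall))
  · intro x
    have := DFunLike.congr_fun (congrArg Subtype.val hyy) x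
    simpa using this
  · intro x
    have := DFunLike.congr_fun (congrArg Subtype.val hρy) x
    simpa using this

end CfsgLib.RankTwoTypes
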